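import Groth.Agent.L09.FibYoneda
import Groth.Prelude.Def_AlgSt

/-!
# A criterion for stacks in terms of objects

A category fibred in groupoids is a stack as soon as morphisms glue (in the form: a compatible family of
morphisms out of all objects lying over a covering sieve comes from a unique morphism) and every family of
objects indexed by a covering sieve has a cocone.
-/

set_option autoImplicit false
set_option backward.isDefEq.respectTransparency false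
set_option backward.isDefEq.respectTransparency.types false

universe v₃ u₃ v₂ u₂ v u

open CategoryTheory CategoryTheory.Category

namespace Groth.L09.StackBG

variable {C : Type u} [Category.{v} C] {𝒳 : BasedCategory.{v₂, u₂} C}

/-- Lifts along morphisms of a category fibred in groupoids exist and are unique. -/
theorem exists_lift (h : FibCat.IsFibGrpd 𝒳.p) {a b c : 𝒳.obj} (φ : a ⟶ b) (ψ : c ⟶ b)
    (g : 𝒳.p.obj c ⟶ 𝒳.p.obj a) (hg : g ≫ 𝒳.p.map φ = 𝒳.p.map ψ) :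
    ∃! χ : c ⟶ a, 𝒳.p.map χ = g ∧ χ ≫ φ = ψ := by
  have := h.isStronglyCartesian φ
  have : 𝒳.p.IsHomLift (g ≫ 𝒳.p.map φ) ψ := by rw [hg]; exact IsHomLift.map 𝒳.p ψ
  obtain ⟨χ, ⟨hχ, hc⟩, huniq⟩ := Functor.IsStronglyCartesian.universal_property' (p := 𝒳.p)
    (f := 𝒳.p.map φ) (φ := φ) g ψ
  refine ⟨χ, ⟨(@IsHomLift.eq_of_isHomLift _ _ _ _ 𝒳.p _ _ g χ hχ).symm, hc⟩, ?_⟩
  rintro χ' ⟨hb, hc'⟩
  refine huniq χ' ⟨?_, hc'⟩
  subst hb
  exact IsHomLift.map 𝒳.p χ'

section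

variable {U : C} {R : Sieve U}

theorem overMap_base (F : FibCat.overCat U ⥤ᵇ 𝒳) {a b : Over U} (φ : a ⟶ b) :
    𝒳.p.map (F.map φ) ≫ eqToHom (F.w_obj b) = eqToHom (F.w_obj a) ≫ φ.left := by
  have h := Functor.congr_hom F.w φ
  change 𝒳.p.map (F.map φ) = eqToHom _ ≫ φ.left ≫ eqToHom _ at h
  rw [h, assoc, assoc, eqToHom_trans, eqToHom_refl]
  erw [comp_id]

theorem sieveMap_base (F : Stk.sieveCat R ⥤ᵇ 𝒳) {a b : (Stk.sieveCat R).obj} (φ : a ⟶ b) :
    𝒳.p.map (F.map φ) ≫ eqToHom (F.w_obj b) = eqToHom (F.w_obj a) ≫ φ.hom.left := by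
  have h := Functor.congr_hom F.w φ
  change 𝒳.p.map (F.map φ) = eqToHom _ ≫ φ.hom.left ≫ eqToHom _ at h
  rw [h, assoc, assoc, eqToHom_trans, eqToHom_refl]
  erw [comp_id]

end

variable {J : GrothendieckTopology C}

/-- Morphisms glue along the covering sieves. -/
def HomGlue (𝒳 : BasedCategory.{v₂, u₂} C) (J : GrothendieckTopology C) : Prop :=
  ∀ (x y : 𝒳.obj) (b : 𝒳.p.obj x ⟶ 𝒳.p.obj y) (R : Sieve (𝒳.p.obj x)), R ∈ J (𝒳.p.obj x) →
    ∀ (T : ∀ ⦃z : 𝒳.obj⦄ (π : z ⟶ x), R (𝒳.p.map π) → (z ⟶ y)),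
      (∀ ⦃z : 𝒳.obj⦄ (π : z ⟶ x) (hπ : R (𝒳.p.map π)), 𝒳.p.map (T π hπ) = 𝒳.p.map π ≫ b) →
      (∀ ⦃z' z : 𝒳.obj⦄ (n : z' ⟶ z) (π : z ⟶ x) (π' : z' ⟶ x) (hπ : R (𝒳.p.map π))
        (hπ' : R (𝒳.p.map π')), n ≫ π = π' → n ≫ T π hπ = T π' hπ') →
      ∃! h : x ⟶ y, 𝒳.p.map h = b ∧ ∀ ⦃z : 𝒳.obj⦄ (π : z ⟶ x) (hπ : R (𝒳.p.map π)), π ≫ h = T π hπ

/-- Families of objects indexed by the covering sieves have cocones. -/
def ObjGlue (𝒳 : BasedCategory.{v₂, u₂} C) (J : GrothendieckTopology C) : Prop :=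
  ∀ (U : C) (R : Sieve U), R ∈ J U → ∀ Γ : Stk.sieveCat R ⥤ᵇ 𝒳,
    ∃ (x : 𝒳.obj) (e : 𝒳.p.obj x = U) (τ : ∀ a : (Stk.sieveCat R).obj, Γ.obj a ⟶ x),
      (∀ a, 𝒳.p.map (τ a) ≫ eqToHom e = eqToHom (Γ.w_obj a) ≫ a.obj.hom) ∧
      ∀ {a b : (Stk.sieveCat R).obj} (φ : a ⟶ b), Γ.map φ ≫ τ b = τ a

variable {U : C} {R : Sieve U}

/-- The terminal object of the slice. -/
abbrev idOver (U : C) : (FibCat.overCat U).obj := Over.mk (𝟙 U)

/-- The map to the terminal object. -/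
abbrev toId {U : C} (a : (FibCat.overCat U).obj) : a ⟶ idOver U := Over.homMk a.hom (comp_id _)

theorem toId_base (Φ : FibCat.overCat U ⥤ᵇ 𝒳) (a : Over U) :
    𝒳.p.map (Φ.map (toId a)) ≫ eqToHom (Φ.w_obj (idOver U)) = eqToHom (Φ.w_obj a) ≫ a.hom :=
  overMap_base Φ (toId a)

theorem natTrans_base {𝒜 : BasedCategory.{v₃, u₃} C} {F F' : 𝒜 ⥤ᵇ 𝒳} (γ : F ⟶ F') (a : 𝒜.obj) :
    𝒳.p.map (γ.toNatTrans.app a) ≫ eqToHom (F'.w_obj a) = eqToHom (F.w_obj a) := by
  have h := γ.isHomLift' a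
  have h' := @IsHomLift.fac' _ _ _ _ 𝒳.p _ _ _ _ (𝟙 (𝒜.p.obj a)) (γ.toNatTrans.app a) h
  rw [h']; simp

theorem isStack_of_glue (h : FibCat.IsFibGrpd 𝒳.p) (hH : HomGlue 𝒳 J) (hO : ObjGlue 𝒳 J) :
    Stk.IsStack J 𝒳 := by
  refine ⟨h, fun U R hR => ?_⟩
  -- the comparison of an object over an arrow of the sieve with the functor
  have hc : ∀ (Φ : FibCat.overCat U ⥤ᵇ 𝒳) ⦃z : 𝒳.obj⦄ (π : z ⟶ Φ.obj (idOver U)),
      ∃! c : z ⟶ Φ.obj (Over.mk (𝒳.p.map π ≫ eqToHom (Φ.w_obj (idOver U)))),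
        𝒳.p.map c = eqToHom (Φ.w_obj (Over.mk (𝒳.p.map π ≫ eqToHom (Φ.w_obj (idOver U))))).symm ∧
          c ≫ Φ.map (toId _) = π := fun Φ z π =>
    exists_lift h (Φ.map (toId _)) π _ (by
      rw [← cancel_mono (eqToHom (Φ.w_obj (idOver U))), assoc, toId_base, eqToHom_trans_assoc,
        eqToHom_refl, id_comp]
      rfl)
  have hF : (Stk.resSieve R 𝒳).Faithful := by
    refine ⟨fun {Φ Ψ} α β hαβ => ?_⟩
    have hsv : ∀ a : (Stk.sieveCat R).obj, α.toNatTrans.app a.obj = β.toNatTrans.app a.obj := fun a =>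
      congrArg (fun t => t.toNatTrans.app a) hαβ
    let R' := R.pullback (eqToHom (Φ.w_obj (idOver U)))
    let T : ∀ ⦃z : 𝒳.obj⦄ (π : z ⟶ Φ.obj (idOver U)), R' (𝒳.p.map π) → (z ⟶ Ψ.obj (idOver U)) :=
      fun z π _ => π ≫ α.toNatTrans.app (idOver U)
    have hb : 𝒳.p.map (α.toNatTrans.app (idOver U)) = 𝒳.p.map (β.toNatTrans.app (idOver U)) := by
      rw [← cancel_mono (eqToHom (Ψ.w_obj (idOver U)))]
      exact (natTrans_base α _).trans (natTrans_base β _).symm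
    have h0 : α.toNatTrans.app (idOver U) = β.toNatTrans.app (idOver U) := by
      refine (hH _ _ (𝒳.p.map (α.toNatTrans.app (idOver U))) R' (J.pullback_stable _ hR) T
        (fun z π _ => 𝒳.p.map_comp _ _) (fun z' z n π π' _ _ e => by simp only [T, ← assoc, e])).unique
        ⟨rfl, fun z π _ => rfl⟩ ⟨hb.symm, fun z π hπ => ?_⟩
      obtain ⟨c, -, hc⟩ := (hc Φ π).exists
      show π ≫ β.toNatTrans.app _ = π ≫ α.toNatTrans.app _
      rw [← hc, assoc, assoc, α.toNatTrans.naturality, β.toNatTrans.naturality,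
        hsv ⟨Over.mk (𝒳.p.map π ≫ eqToHom (Φ.w_obj (idOver U))), hπ⟩]
    refine BasedNatTrans.homCategory.ext _ _ (NatTrans.ext (funext fun a => ?_))
    have hw : α.toNatTrans.app a ≫ Ψ.map (toId a) = β.toNatTrans.app a ≫ Ψ.map (toId a) := by
      rw [← α.toNatTrans.naturality, ← β.toNatTrans.naturality, h0]
    refine (exists_lift h (Ψ.map (toId a)) (α.toNatTrans.app a ≫ Ψ.map (toId a))
      (𝒳.p.map (α.toNatTrans.app a)) (𝒳.p.map_comp _ _).symm).unique ⟨rfl, rfl⟩ ⟨?_, hw.symm⟩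
    rw [← cancel_mono (eqToHom (Ψ.w_obj a))]
    exact (natTrans_base β _).trans (natTrans_base α _).symm
  have hFull : (Stk.resSieve R 𝒳).Full := by
    refine ⟨fun {Φ Ψ} γ => ?_⟩
    let e := Φ.w_obj (idOver U)
    let e' := Ψ.w_obj (idOver U)
    let R' := R.pullback (eqToHom e)
    let aOf : ∀ ⦃z : 𝒳.obj⦄ (π : z ⟶ Φ.obj (idOver U)), R' (𝒳.p.map π) → (Stk.sieveCat R).obj :=
      fun z π hπ => ⟨Over.mk (𝒳.p.map π ≫ eqToHom e), hπ⟩
    choose c hcs using fun z π => (hc Φ (z := z) π).exists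
    have hγb : ∀ a : (Stk.sieveCat R).obj,
        𝒳.p.map (γ.toNatTrans.app a) ≫ eqToHom (Ψ.w_obj a.obj) = eqToHom (Φ.w_obj a.obj) := fun a =>
      natTrans_base γ a
    let P : ∀ a : (Stk.sieveCat R).obj, Φ.obj a.obj ⟶ Ψ.obj (idOver U) :=
      fun a => γ.toNatTrans.app a ≫ Ψ.map (toId a.obj)
    have hP : ∀ {a b : (Stk.sieveCat R).obj} (φ : a ⟶ b), Φ.map φ.hom ≫ P b = P a := fun {a b} φ => by
      have hn := γ.toNatTrans.naturality φ
      change Φ.map φ.hom ≫ γ.toNatTrans.app b = γ.toNatTrans.app a ≫ Ψ.map φ.hom at hn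
      show Φ.map φ.hom ≫ γ.toNatTrans.app b ≫ _ = γ.toNatTrans.app a ≫ _
      rw [reassoc_of% hn, ← Functor.map_comp]
      congr 2
      exact Over.OverMorphism.ext (Over.w φ.hom)
    obtain ⟨g, ⟨hgb, hg⟩, -⟩ := hH (Φ.obj (idOver U)) (Ψ.obj (idOver U)) (eqToHom (e.trans e'.symm)) R'
      (J.pullback_stable _ hR) (fun z π hπ => c z π ≫ P (aOf π hπ))
      (fun z π hπ => by
        rw [← cancel_mono (eqToHom e'), 𝒳.p.map_comp, 𝒳.p.map_comp, assoc, assoc]
        erw [toId_base Ψ (aOf π hπ).obj]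
        rw [reassoc_of% hγb, (hcs z π).1, eqToHom_trans_assoc, eqToHom_refl, id_comp, assoc, eqToHom_trans]
        rfl)
      (fun z' z n π π' hπ hπ' hn => by
        subst hn
        let φ : aOf (n ≫ π) hπ' ⟶ aOf π hπ := ObjectProperty.homMk (Over.homMk (𝒳.p.map n) (by
          simp [aOf, 𝒳.p.map_comp]))
        have key : c z' (n ≫ π) ≫ Φ.map φ.hom = n ≫ c z π := by
          refine (exists_lift h (Φ.map (toId (aOf π hπ).obj)) (n ≫ π)
            (𝒳.p.map n ≫ eqToHom (Φ.w_obj (aOf π hπ).obj).symm) ?_).unique ⟨?_, ?_⟩ ⟨?_, ?_⟩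
          · rw [← cancel_mono (eqToHom e), assoc, assoc, toId_base, eqToHom_trans_assoc, eqToHom_refl,
              id_comp, 𝒳.p.map_comp, assoc]
            rfl
          · rw [← cancel_mono (eqToHom (Φ.w_obj (aOf π hπ).obj)), 𝒳.p.map_comp, assoc, overMap_base,
              (hcs z' (n ≫ π)).1, eqToHom_trans_assoc, eqToHom_refl, id_comp]
            simp [φ]
          · rw [assoc, ← Functor.map_comp]
            refine Eq.trans ?_ (hcs z' (n ≫ π)).2
            congr 2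
            exact Over.OverMorphism.ext (Over.w φ.hom)
          · rw [𝒳.p.map_comp, (hcs z π).1]
          · rw [assoc]
            exact congrArg (n ≫ ·) (hcs z π).2
        rw [← reassoc_of% key, hP φ])
    have happ : ∀ a : (FibCat.overCat U).obj, ∃! m : Φ.obj a ⟶ Ψ.obj a,
        𝒳.p.map m = eqToHom ((Φ.w_obj a).trans (Ψ.w_obj a).symm) ∧
          m ≫ Ψ.map (toId a) = Φ.map (toId a) ≫ g := fun a =>
      exists_lift h _ _ _ (by
        rw [← cancel_mono (eqToHom e'), assoc, toId_base, 𝒳.p.map_comp, hgb, assoc, eqToHom_trans,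
          toId_base, eqToHom_trans_assoc])
    choose m hm using fun a => (happ a).exists
    have hmbase : ∀ a, 𝒳.p.IsHomLift (𝟙 a.left) (m a) := fun a => by
      refine IsHomLift.of_fac' _ _ _ (Φ.w_obj a) (Ψ.w_obj a) ?_
      rw [(hm a).1]
      simp
    refine ⟨⟨⟨m, fun a b φ => ?_⟩, hmbase⟩, ?_⟩
    · refine (exists_lift h (Ψ.map (toId b)) (Φ.map (toId a) ≫ g)
        (𝒳.p.map (Φ.map φ) ≫ eqToHom ((Φ.w_obj b).trans (Ψ.w_obj b).symm)) ?_).unique ⟨?_, ?_⟩ ⟨?_, ?_⟩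
      · rw [← cancel_mono (eqToHom e'), assoc, assoc, toId_base, 𝒳.p.map_comp, hgb, assoc, eqToHom_trans,
          toId_base, eqToHom_trans_assoc, reassoc_of% overMap_base]
        congr 1
        exact Over.w φ
      · rw [𝒳.p.map_comp, (hm b).1]
      · rw [assoc, (hm b).2, ← assoc, ← Functor.map_comp]
        congr 2
        exact Over.OverMorphism.ext (Over.w φ)
      · rw [← cancel_mono (eqToHom (Ψ.w_obj b)), 𝒳.p.map_comp, (hm a).1, assoc, overMap_base,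
          eqToHom_trans_assoc, assoc, eqToHom_trans, overMap_base]
      · rw [assoc, ← Functor.map_comp]
        refine Eq.trans ?_ (hm a).2
        congr 2
        exact Over.OverMorphism.ext (Over.w φ)
    · refine BasedNatTrans.homCategory.ext _ _ (NatTrans.ext (funext fun a => ?_))
      show m a.obj = γ.toNatTrans.app a
      refine (happ a.obj).unique (hm _) ⟨?_, ?_⟩
      · rw [← cancel_mono (eqToHom (Ψ.w_obj a.obj)), hγb, eqToHom_trans]
      · have hπ : R' (𝒳.p.map (Φ.map (toId a.obj))) := by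
          show R (𝒳.p.map (Φ.map (toId a.obj)) ≫ eqToHom e)
          rw [toId_base]
          exact R.downward_closed a.property _
        rw [hg (Φ.map (toId a.obj)) hπ]
        show P a = _
        let φ : a ⟶ aOf (Φ.map (toId a.obj)) hπ := ObjectProperty.homMk (Over.homMk
          (eqToHom (Φ.w_obj a.obj).symm) (by
            show eqToHom _ ≫ 𝒳.p.map (Φ.map (toId a.obj)) ≫ eqToHom e = a.obj.hom
            rw [toId_base, eqToHom_trans_assoc, eqToHom_refl, id_comp]))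
        have key : c _ (Φ.map (toId a.obj)) = Φ.map φ.hom := by
          refine ((hc Φ (Φ.map (toId a.obj))).unique (hcs _ _) ⟨?_, ?_⟩)
          · rw [← cancel_mono (eqToHom (Φ.w_obj (aOf (Φ.map (toId a.obj)) hπ).obj)), overMap_base]
            simp [φ, aOf]
          · rw [← Functor.map_comp]
            congr 1
            exact Over.OverMorphism.ext (Over.w φ.hom)
        exact ((congrArg (· ≫ P _) key).trans (hP φ)).symm
  have hE : (Stk.resSieve R 𝒳).EssSurj := by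
    refine ⟨fun Γ => ?_⟩
    obtain ⟨x, e, τ, hτb, hτn⟩ := hO U R hR Γ
    have := Fib.isFibered_of_isFibGrpd _ h
    let Φ : FibCat.overCat U ⥤ᵇ 𝒳 := Fib.ofObj e
    let p : ∀ a : Over U, Φ.obj a ⟶ x := fun a => Functor.IsPreFibered.pullbackMap (p := 𝒳.p) e a.hom
    have hpb : ∀ a : Over U, 𝒳.p.map (p a) ≫ eqToHom e = eqToHom (Φ.w_obj a) ≫ a.hom := fun a => by
      rw [@IsHomLift.fac' _ _ _ _ 𝒳.p _ _ _ _ a.hom (p a) inferInstance]
      simp
    have hp : ∀ {a b : Over U} (φ : a ⟶ b), Φ.map φ ≫ p b = p a := fun {a b} φ =>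
      Functor.IsStronglyCartesian.fac 𝒳.p b.hom (p b) (g := φ.left) (f' := a.hom) (Over.w φ).symm (p a)
    have happ : ∀ a : (Stk.sieveCat R).obj, ∃! m : Γ.obj a ⟶ Φ.obj a.obj,
        𝒳.p.map m = eqToHom ((Γ.w_obj a).trans (Φ.w_obj a.obj).symm) ∧ m ≫ p a.obj = τ a := fun a =>
      exists_lift h _ _ _ (by
        rw [← cancel_mono (eqToHom e), assoc, hpb, hτb, eqToHom_trans_assoc])
    choose m hm using fun a => (happ a).exists
    have hml : ∀ a, 𝒳.p.IsHomLift (𝟙 ((Stk.sieveCat R).p.obj a)) (m a) := fun a => by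
      refine IsHomLift.of_fac' _ _ _ (Γ.w_obj a) (Φ.w_obj a.obj) ?_
      rw [(hm a).1]
      simp
    have hiso : ∀ a, IsIso (m a) := fun a =>
      have := hml a
      Fib.isIso_of_isFibGrpd _ h (𝟙 ((Stk.sieveCat R).p.obj a)) (m a)
    have hn : ∀ {a b : (Stk.sieveCat R).obj} (φ : a ⟶ b), Γ.map φ ≫ m b = m a ≫ Φ.map φ.hom := fun {a b} φ => by
      refine (exists_lift h (p b.obj) (τ a) (𝒳.p.map (Γ.map φ) ≫ 𝒳.p.map (m b)) ?_).unique ⟨?_, ?_⟩ ⟨?_, ?_⟩
      · rw [← cancel_mono (eqToHom e), assoc, assoc, hpb, hτb, (hm b).1, eqToHom_trans_assoc,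
          reassoc_of% sieveMap_base]
        congr 1
        exact Over.w φ.hom
      · exact 𝒳.p.map_comp _ _
      · rw [assoc, (hm b).2, hτn φ]
      · rw [← cancel_mono (eqToHom (Φ.w_obj b.obj)), 𝒳.p.map_comp, (hm a).1, (hm b).1, assoc, assoc,
          overMap_base, eqToHom_trans_assoc, eqToHom_trans, sieveMap_base]
      · rw [assoc, hp φ.hom, (hm a).2]
    let η : Γ ⟶ (Stk.resSieve R 𝒳).obj Φ := ⟨⟨m, fun a b φ => hn φ⟩, hml⟩
    let ν : (Stk.resSieve R 𝒳).obj Φ ⟶ Γ :=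
      ⟨⟨fun a => have := hiso a; inv (m a), fun a b φ => by
        have := hiso a
        have := hiso b
        rw [IsIso.eq_inv_comp, ← assoc]
        exact (IsIso.comp_inv_eq _).2 (hn φ).symm⟩, fun a => by
        have := hiso a
        have := hml a
        exact IsHomLift.lift_id_inv_isIso 𝒳.p _ (m a)⟩
    refine ⟨Φ, ⟨⟨ν, η, ?_, ?_⟩⟩⟩
    · refine BasedNatTrans.homCategory.ext _ _ (NatTrans.ext (funext fun a => ?_))
      have := hiso a
      exact IsIso.inv_hom_id (m a)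
    · refine BasedNatTrans.homCategory.ext _ _ (NatTrans.ext (funext fun a => ?_))
      have := hiso a
      exact IsIso.hom_inv_id (m a)
  exact Functor.IsEquivalence.mk

end Groth.L09.StackBG
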