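import Groth.Agent.L09.StackBG.Crit
import Groth.Agent.L19.FpqcCover
import Groth.Agent.L13.CGrpExt.Descend
import Groth.Agent.L20.QuasiAffine
import Groth.Prelude.Def_AlgSt5
import Mathlib.AlgebraicGeometry.Sites.Fpqc

/-!
# Torsors which are schemes, for the fpqc topology: descent of morphisms

The classifying category of fpqc torsors which are schemes is fibred in groupoids and its morphisms glue.
-/

set_option autoImplicit false
set_option linter.style.haveILetI false
set_option backward.isDefEq.respectTransparency false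
set_option backward.isDefEq.respectTransparency.types false

universe u

open CategoryTheory CategoryTheory.Limits MonoidalCategory CartesianMonoidalCategory MonObj AlgebraicGeometry

noncomputable section

namespace Groth.L09.StackBG

variable {S : Scheme.{u}}

/-- The big fpqc site of `S`. -/
abbrev Jq (S : Scheme.{u}) : GrothendieckTopology (Over S) := QuotSh.J Scheme.fpqcPrecoverage S

theorem exists_small_cover {U : Over S} {R : Sieve U} (hR : R ∈ Jq S U) :
    ∃ (κ : Type u) (W : κ → Scheme.{u}) (f : ∀ k, W k ⟶ U.left),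
      Presieve.ofArrows W f ∈ Scheme.fpqcPrecoverage U.left ∧
      ∀ k, R (Over.homMk (f k) : Over.mk (f k ≫ U.hom) ⟶ U) := by
  rw [GrothendieckTopology.mem_over_iff,
    Precoverage.mem_toGrothendieck_iff_of_isStableUnderComposition] at hR
  obtain ⟨P, hP, hle⟩ := hR
  obtain ⟨E, rfl⟩ := Precoverage.mem_iff_exists_zeroHypercover.1 hP
  have : Precoverage.Small.{u} Scheme.fpqcPrecoverage.{u} :=
    inferInstanceAs (Precoverage.Small.{u} (Scheme.propQCPrecoverage @Flat))
  let E' := Precoverage.ZeroHypercover.restrictIndexOfSmall.{u} E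
  exact ⟨E'.I₀, E'.X, E'.f, E'.mem₀, fun k => (Sieve.overEquiv_iff _ _).1 (hle _ _ (Presieve.ofArrows.mk _))⟩

theorem mem_J_of_mem {U : Over S} {P : Presieve U.left} (hP : P ∈ Scheme.fpqcPrecoverage U.left)
    {R : Sieve U} (h : ∀ ⦃W : Scheme.{u}⦄ (g : W ⟶ U.left), P g → R (Over.homMk g : Over.mk (g ≫ U.hom) ⟶ U)) :
    R ∈ Jq S U := by
  rw [GrothendieckTopology.mem_over_iff,
    Precoverage.mem_toGrothendieck_iff_of_isStableUnderComposition]
  exact ⟨P, hP, fun W g hg => (Sieve.overEquiv_iff _ _).2 (h g hg)⟩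

/-- Morphisms to a scheme are determined on a covering sieve. -/
theorem hom_ext {A Z : Over S} {R : Sieve A} (hR : R ∈ Jq S A) {a b : A ⟶ Z}
    (h : ∀ ⦃W : Over S⦄ (g : W ⟶ A), R g → g ≫ a = g ≫ b) : a = b :=
  ((GrothendieckTopology.Subcanonical.isSheaf_of_isRepresentable (J := Jq S) (yoneda.obj Z)) R hR).isSeparatedFor.ext
    fun W g hg => h g hg

theorem exists_glue {A Z : Over S} {R : Sieve A} (hR : R ∈ Jq S A)
    (φ : ∀ ⦃W : Over S⦄ (g : W ⟶ A), R g → (W ⟶ Z))
    (hφ : ∀ ⦃W' W : Over S⦄ (k : W' ⟶ W) (g : W ⟶ A) (g' : W' ⟶ A) (hg : R g) (hg' : R g'),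
      k ≫ g = g' → k ≫ φ g hg = φ g' hg') :
    ∃ m : A ⟶ Z, ∀ ⦃W : Over S⦄ (g : W ⟶ A) (hg : R g), g ≫ m = φ g hg := by
  have hS : Presieve.IsSheaf (Jq S) (yoneda.obj Z) :=
    GrothendieckTopology.Subcanonical.isSheaf_of_isRepresentable _
  let x : Presieve.FamilyOfElements (yoneda.obj Z) R.arrows := fun W g hg => φ g hg
  have hx : x.Compatible := by
    rw [Presieve.compatible_iff_sieveCompatible]
    intro W W' g k hg
    exact (hφ k g _ hg _ rfl).symm
  exact ⟨(hS R hR).amalgamate x hx, fun W g hg => (hS R hR).valid_glue hx g hg⟩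

theorem one_act_point {G X : Over S} [GrpObj G] (a : AlgGrp.Action G X) {W : Over S} (q : W ⟶ X) :
    lift (toUnit W ≫ η[G]) q ≫ a.act = q := by
  rw [← lift_whiskerRight_assoc, a.one_act]
  simp [leftUnitor_hom]

variable (G : Over S) [GrpObj G]

/-- The category of torsors. -/
abbrev BGq : AlgSt.Cat S := AlgSt.BG Scheme.fpqcPrecoverage G

/-- A torsor. -/
abbrev Tq : Type (u + 1) := AlgSt.QuotObj Scheme.fpqcPrecoverage G (AlgSt.trivAction G)

variable {G}

theorem eq_toUnit {P : Over S} (a b : P ⟶ 𝟙_ (Over S)) : a = b := toUnit_unique _ _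

/-- The restriction of a torsor along a morphism of bases. -/
def restrict (A : Tq G) {T : Over S} (f : T ⟶ A.base) : Tq G where
  base := T
  P := pullback A.π f
  act :=
    { act := pullback.lift ((G ◁ pullback.fst A.π f) ≫ A.act.act) (snd G _ ≫ pullback.snd A.π f)
        (by rw [Category.assoc, A.cart.w, whiskerLeft_snd_assoc, Category.assoc, pullback.condition])
      one_act := by
        apply pullback.hom_ext
        · rw [Category.assoc, pullback.lift_fst, ← whisker_exchange_assoc, A.act.one_act]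
          simp
        · simp [leftUnitor_hom]
      mul_act := by
        apply pullback.hom_ext
        · simp only [Category.assoc, pullback.lift_fst]
          rw [← whisker_exchange_assoc, A.act.mul_act, associator_naturality_right_assoc,
            ← MonoidalCategory.whiskerLeft_comp_assoc, ← MonoidalCategory.whiskerLeft_comp_assoc, pullback.lift_fst]
        · simp }
  π := pullback.snd _ _
  cart := by
    refine IsPullback.of_right ?_ (pullback.lift_snd _ _ _) (IsPullback.of_hasPullback A.π f)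
    rw [pullback.lift_fst, ← pullback.condition]
    exact (AlgSt.isPullback_whiskerLeft _).paste_horiz A.cart
  loc := by
    obtain ⟨R, hR, hsec⟩ := A.loc
    obtain ⟨κ, Y, a, rfl⟩ := R.exists_eq_ofArrows
    refine ⟨.ofArrows (fun i => pullback (a i) f.left) (fun i => pullback.snd (a i) f.left),
      Precoverage.mem_coverings_of_isPullback a hR f.left _ (fun i => pullback.fst (a i) f.left)
        (fun i => (IsPullback.of_hasPullback _ _).flip), ?_⟩
    rintro _ _ ⟨i⟩
    obtain ⟨s, hs⟩ := hsec (a i) ⟨i⟩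
    have sq := (IsPullback.of_hasPullback A.π f).map (Over.forget S)
    exact ⟨sq.lift (pullback.fst (a i) f.left ≫ s) (pullback.snd (a i) f.left) (by
      show (pullback.fst (a i) f.left ≫ s) ≫ A.π.left = _ ≫ f.left
      rw [Category.assoc, show s ≫ A.π.left = a i from hs, pullback.condition]), sq.lift_snd _ _ _⟩
  φ := toUnit _
  eqv := eq_toUnit _ _

/-- The projection from the restriction. -/
def restrictHom (A : Tq G) {T : Over S} (f : T ⟶ A.base) : restrict A f ⟶ A where
  base := f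
  top := pullback.fst _ _
  eqv := pullback.lift_fst _ _ _
  cart := IsPullback.of_hasPullback _ _
  wφ := eq_toUnit _ _

/-- Every morphism of torsors is cartesian. -/
theorem exists_lift_hom {A A' C : Tq G} (φ : A ⟶ A') (φ' : C ⟶ A') (g : C.base ⟶ A.base)
    (hg : g ≫ φ.base = φ'.base) : ∃! χ : C ⟶ A, χ.base = g ∧ χ ≫ φ = φ' := by
  have w : φ'.top ≫ A'.π = (C.π ≫ g) ≫ φ.base := by rw [φ'.cart.w, Category.assoc, hg]
  let top := φ.cart.lift φ'.top (C.π ≫ g) w
  let χ : C ⟶ A :=
    { base := g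
      top := top
      eqv := by
        apply φ.cart.hom_ext
        · rw [Category.assoc, φ.cart.lift_fst, φ'.eqv, Category.assoc, φ.eqv,
            ← MonoidalCategory.whiskerLeft_comp_assoc, φ.cart.lift_fst]
        · rw [Category.assoc, φ.cart.lift_snd, Category.assoc, A.cart.w,
            whiskerLeft_snd_assoc, φ.cart.lift_snd, ← Category.assoc, C.cart.w, Category.assoc]
      cart := by
        refine IsPullback.of_right ?_ (φ.cart.lift_snd _ _ _) φ.cart
        rw [φ.cart.lift_fst, hg]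
        exact φ'.cart
      wφ := eq_toUnit _ _ }
  refine ⟨χ, ⟨rfl, AlgSt.QuotObj.hom_ext hg (φ.cart.lift_fst _ _ _)⟩, ?_⟩
  rintro χ' ⟨hb, hc⟩
  refine AlgSt.QuotObj.hom_ext hb (φ.cart.hom_ext ?_ ?_)
  · show χ'.top ≫ φ.top = top ≫ φ.top
    rw [φ.cart.lift_fst, ← hc]
    rfl
  · show χ'.top ≫ A.π = top ≫ A.π
    rw [φ.cart.lift_snd, χ'.cart.w, hb]

theorem isFibGrpd : FibCat.IsFibGrpd (BGq G).p where
  exists_lift := fun {A} {T} f => ⟨restrict A f, restrictHom A f, IsHomLift.map
    (AlgSt.QuotObj.forget Scheme.fpqcPrecoverage G (AlgSt.trivAction G)) (restrictHom A f)⟩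
  isStronglyCartesian := fun {A A'} φ =>
    { universal_property' := fun {C} g φ' hφ' => by
        have hg : g ≫ φ.base = φ'.base :=
          IsHomLift.eq_of_isHomLift (AlgSt.QuotObj.forget Scheme.fpqcPrecoverage G (AlgSt.trivAction G))
            (g ≫ (AlgSt.QuotObj.forget Scheme.fpqcPrecoverage G (AlgSt.trivAction G)).map φ) φ'
        obtain ⟨χ, ⟨hb, hc⟩, huniq⟩ := exists_lift_hom φ φ' g hg
        subst hb
        refine ⟨χ, ⟨IsHomLift.map (AlgSt.QuotObj.forget Scheme.fpqcPrecoverage G (AlgSt.trivAction G)) χ, hc⟩, ?_⟩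
        rintro χ' ⟨hχ', hc'⟩
        exact huniq χ' ⟨(IsHomLift.eq_of_isHomLift (AlgSt.QuotObj.forget Scheme.fpqcPrecoverage G (AlgSt.trivAction G))
          χ.base χ').symm, hc'⟩ }

/-- The points of the base over which a torsor has a section. -/
def secSieve (A : Tq G) : Sieve A.base where
  arrows W g := ∃ s : W ⟶ A.P, s ≫ A.π = g
  downward_closed := fun {W W'} g ⟨s, hs⟩ k => ⟨k ≫ s, by rw [Category.assoc, hs]⟩

theorem secSieve_mem (A : Tq G) : secSieve A ∈ Jq S A.base := by
  obtain ⟨R, hR, hsec⟩ := A.loc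
  refine mem_J_of_mem hR fun W g hg => ?_
  obtain ⟨s, hs⟩ := hsec g hg
  exact ⟨Over.homMk s (by
    show s ≫ A.P.hom = g ≫ A.base.hom
    rw [← show s ≫ A.π.left = g from hs, Category.assoc, Over.w A.π]), Over.OverMorphism.ext hs⟩

theorem act_π (A : Tq G) {W : Over S} (g : W ⟶ G) (p : W ⟶ A.P) :
    (lift g p ≫ A.act.act) ≫ A.π = p ≫ A.π := by
  rw [Category.assoc, A.cart.w, lift_snd_assoc]

/-- Equivariant maps of torsors over the same base are isomorphisms. -/
theorem isIso_of_eqv {A A' : Tq G} (b : A.base ⟶ A'.base) [IsIso b] (m : A.P ⟶ A'.P)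
    (he : A.act.act ≫ m = (G ◁ m) ≫ A'.act.act) (hw : m ≫ A'.π = A.π ≫ b) : IsIso m := by
  have hm : ∀ {W : Over S} (g : W ⟶ G) (p : W ⟶ A.P),
      (lift g p ≫ A.act.act) ≫ m = lift g (p ≫ m) ≫ A'.act.act := fun g p => by
    rw [Category.assoc, he, lift_whiskerLeft_assoc]
  have inj : ∀ {W : Over S} (p q : W ⟶ A.P), p ≫ m = q ≫ m → p = q := fun {W} p q h => by
    have e : p ≫ A.π = q ≫ A.π := by
      rw [← cancel_mono b, Category.assoc, Category.assoc, ← hw, reassoc_of% h]
    obtain ⟨l, hl1, hl2⟩ : ∃ l : W ⟶ G ⊗ A.P, l ≫ A.act.act = p ∧ l ≫ snd G A.P = q :=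
      ⟨A.cart.lift p q e, A.cart.lift_fst _ _ _, A.cart.lift_snd _ _ _⟩
    have hl : l = lift (l ≫ fst G A.P) q := by
      ext1
      · simp
      · simp [hl2]
    have h1 : lift (l ≫ fst G A.P) (q ≫ m) = lift (toUnit W ≫ η[G]) (q ≫ m) := by
      refine A'.cart.hom_ext ?_ (by simp)
      rw [← hm, ← hl, hl1, h]
      exact (one_act_point A'.act (q ≫ m)).symm
    have h2 : l ≫ fst G A.P = toUnit W ≫ η[G] := by
      simpa using congrArg (· ≫ fst G A'.P) h1
    rw [← hl1, hl, h2]
    exact one_act_point A.act q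
  have ex : ∀ ⦃W : Over S⦄ (q : W ⟶ A'.P), ((secSieve A).pullback (A'.π ≫ inv b)) q →
      ∃ p : W ⟶ A.P, p ≫ m = q := fun W q ⟨s, hs⟩ => by
    have e : q ≫ A'.π = (s ≫ m) ≫ A'.π := by
      rw [Category.assoc, hw, ← Category.assoc, hs]
      simp
    refine ⟨lift (A'.cart.lift q (s ≫ m) e ≫ fst G A'.P) s ≫ A.act.act, ?_⟩
    rw [hm, show lift (A'.cart.lift q (s ≫ m) e ≫ fst G A'.P) (s ≫ m) = A'.cart.lift q (s ≫ m) e from by
      ext1
      · simp
      · rw [lift_snd, A'.cart.lift_snd], A'.cart.lift_fst]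
  choose P hP using ex
  obtain ⟨n, hn⟩ := exists_glue ((Jq S).pullback_stable _ (secSieve_mem A)) P
    (fun W' W k g g' hg hg' e => inj _ _ (by rw [Category.assoc, hP, hP, e]))
  have hnm : n ≫ m = 𝟙 _ := hom_ext ((Jq S).pullback_stable _ (secSieve_mem A)) fun W g hg => by
    rw [← Category.assoc, hn g hg, hP, Category.comp_id]
  exact ⟨n, inj _ _ (by rw [Category.assoc, hnm, Category.comp_id, Category.id_comp]), hnm⟩

/-- An equivariant map of torsors over a morphism of bases gives a morphism of torsors. -/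
theorem exists_hom {A A' : Tq G} (b : A.base ⟶ A'.base) (m : A.P ⟶ A'.P)
    (he : A.act.act ≫ m = (G ◁ m) ≫ A'.act.act) (hw : m ≫ A'.π = A.π ≫ b) :
    ∃ h : A ⟶ A', h.base = b ∧ h.top = m := by
  let l : A.P ⟶ (restrict A' b).P := pullback.lift m A.π hw
  have hl : A.act.act ≫ l = (G ◁ l) ≫ (restrict A' b).act.act := by
    apply pullback.hom_ext
    · simp only [restrict, l, Category.assoc, pullback.lift_fst]
      rw [he, ← MonoidalCategory.whiskerLeft_comp_assoc, pullback.lift_fst]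
    · simp only [restrict, l, Category.assoc, pullback.lift_snd]
      rw [A.cart.w, whiskerLeft_snd_assoc, pullback.lift_snd]
  have : IsIso l := @isIso_of_eqv _ _ _ A (restrict A' b) (𝟙 A.base) (IsIso.id _) l hl (by
    rw [Category.comp_id]; exact pullback.lift_snd _ _ _)
  have hc : IsPullback m A.π A'.π b :=
    IsPullback.of_iso_pullback ⟨hw⟩ (asIso l) (pullback.lift_fst _ _ _) (pullback.lift_snd _ _ _)
  exact ⟨⟨b, m, he, hc, eq_toUnit _ _⟩, rfl, rfl⟩

theorem homGlue : HomGlue (BGq G) (Jq S) := by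
  intro x y b R hR T hTb hTn
  let R' : Sieve x.P := R.pullback x.π
  have hR' : R' ∈ Jq S x.P := (Jq S).pullback_stable _ hR
  let z : ∀ ⦃W : Over S⦄, (W ⟶ x.P) → Tq G := fun W g => restrict x (g ≫ x.π)
  let l : ∀ ⦃W : Over S⦄ (g : W ⟶ x.P), W ⟶ (z g).P := fun W g =>
    pullback.lift g (𝟙 W) (Category.id_comp _).symm
  let φ : ∀ ⦃W : Over S⦄ (g : W ⟶ x.P), R' g → (W ⟶ y.P) := fun W g hg =>
    l g ≫ (T (restrictHom x (g ≫ x.π)) hg).top
  -- the value does not depend on the torsor used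
  have key : ∀ ⦃z₁ : Tq G⦄ (π : z₁ ⟶ x) (hπ : R π.base) ⦃W : Over S⦄ (p : W ⟶ z₁.P) (g : W ⟶ x.P)
      (hg : R' g), p ≫ π.top = g → φ g hg = p ≫ (T π hπ).top := fun z₁ π hπ W p g hg e => by
    obtain ⟨n, ⟨hnb, hn⟩, -⟩ := exists_lift_hom π (restrictHom x (g ≫ x.π)) (p ≫ z₁.π) (by
      rw [Category.assoc, ← π.cart.w, reassoc_of% e]
      rfl)
    have e1 : l g ≫ n.top = p := by
      refine π.cart.hom_ext ?_ ?_
      · rw [Category.assoc, show n.top ≫ π.top = pullback.fst x.π (g ≫ x.π) from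
          congrArg AlgSt.QuotObj.Hom.top hn, pullback.lift_fst, e]
      · rw [Category.assoc, n.cart.w, hnb]
        simp [l, z, restrict]
        exact Category.id_comp _
    show l g ≫ _ = _
    rw [← hTn n π (restrictHom x (g ≫ x.π)) hπ hg hn, AlgSt.QuotObj.comp_top, ← Category.assoc, e1]
  have hφ : ∀ ⦃W' W : Over S⦄ (k : W' ⟶ W) (g : W ⟶ x.P) (g' : W' ⟶ x.P) (hg : R' g) (hg' : R' g'),
      k ≫ g = g' → k ≫ φ g hg = φ g' hg' := fun W' W k g g' hg hg' e => by
    rw [key (restrictHom x (g ≫ x.π)) hg (k ≫ l g) g' hg' (by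
      rw [Category.assoc, show (restrictHom x (g ≫ x.π)).top = pullback.fst _ _ from rfl,
        pullback.lift_fst, e]), Category.assoc]
  obtain ⟨m, hm⟩ := exists_glue hR' φ hφ
  have hmT : ∀ ⦃z₁ : Tq G⦄ (π : z₁ ⟶ x) (hπ : R π.base), π.top ≫ m = (T π hπ).top := fun z₁ π hπ => by
    have hg : R' π.top := by
      show R (π.top ≫ x.π)
      rw [π.cart.w]
      exact R.downward_closed hπ _
    rw [hm π.top hg, key π hπ (𝟙 _) π.top hg (Category.id_comp _), Category.id_comp]
  have hφb : ∀ ⦃W : Over S⦄ (g : W ⟶ x.P) (hg : R' g), φ g hg ≫ y.π = g ≫ x.π ≫ b := fun W g hg => by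
    show (l g ≫ _) ≫ y.π = _
    rw [Category.assoc, (T (restrictHom x (g ≫ x.π)) hg).cart.w,
      show (T (restrictHom x (g ≫ x.π)) hg).base = (g ≫ x.π) ≫ b from hTb (restrictHom x (g ≫ x.π)) hg]
    simp [l, z, restrict]
    exact Category.id_comp _
  have hw : m ≫ y.π = x.π ≫ b := hom_ext hR' fun W g hg => by rw [reassoc_of% hm g hg]; exact hφb g hg
  have he : x.act.act ≫ m = (G ◁ m) ≫ y.act.act := by
    refine hom_ext ((Jq S).pullback_stable (snd G x.P) hR') fun W g hg => ?_
    let p := g ≫ snd G x.P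
    have hp : R' p := hg
    let π := restrictHom x (p ≫ x.π)
    have e2 : g = lift (g ≫ fst G x.P) (l p) ≫ (G ◁ π.top) := by
      ext1
      · simp
      · simp [π, restrictHom, l, p]
    rw [e2]
    simp only [Category.assoc]
    congr 1
    erw [← reassoc_of% π.eqv]
    rw [hmT π hp, ← MonoidalCategory.whiskerLeft_comp_assoc, hmT π hp]
    exact (T π hp).eqv
  obtain ⟨h, hhb, hht⟩ := exists_hom b m he hw
  refine ⟨h, ⟨hhb, fun z₁ π hπ => AlgSt.QuotObj.hom_ext ?_ ?_⟩, ?_⟩
  · exact (congrArg (π.base ≫ ·) hhb).trans (hTb π hπ).symm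
  · exact (congrArg (π.top ≫ ·) hht).trans (hmT π hπ)
  · rintro h' ⟨hb', h'T⟩
    refine AlgSt.QuotObj.hom_ext (hb'.trans hhb.symm) ?_
    rw [hht]
    refine hom_ext hR' fun W g hg => ?_
    rw [hm g hg]
    show _ = l g ≫ _
    rw [← h'T (restrictHom x (g ≫ x.π)) hg, AlgSt.QuotObj.comp_top, ← Category.assoc]
    congr 1
    exact (pullback.lift_fst _ _ _).symm

end Groth.L09.StackBG
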