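import Groth.Agent.L09.StackBG.Torsor
import Groth.Agent.L20.SchDesc.Family
import Groth.Agent.L20.SchDesc.Refine
import Mathlib.CategoryTheory.Comma.Over.Pullback

/-!
# Torsors which are schemes, for the fpqc topology: descent of torsors

A family of torsors under an affine group scheme indexed by a covering sieve glues, by effective descent of
affine morphisms.
-/

set_option autoImplicit false
set_option linter.style.haveILetI false
set_option backward.isDefEq.respectTransparency false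
set_option backward.isDefEq.respectTransparency.types false

universe u

open CategoryTheory CategoryTheory.Limits MonoidalCategory CartesianMonoidalCategory MonObj AlgebraicGeometry

noncomputable section

namespace Groth.L09.StackBG

variable {S : Scheme.{u}} {G : Over S} [GrpObj G]

/-- The structure map of a torsor under an affine group scheme is affine. -/
theorem isAffineHom_π [IsAffineHom G.hom] (A : Tq G) : IsAffineHom A.π.left := by
  obtain ⟨R, hR, hsec⟩ := A.loc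
  obtain ⟨κ, Z, g, rfl⟩ := R.exists_eq_ofArrows
  refine Groth.L19.of_fpqc @IsAffineHom inferInstance A.π.left hR fun i => ?_
  obtain ⟨s, hs⟩ := hsec (g i) ⟨i⟩
  let Zo : Over S := Over.mk (g i ≫ A.base.hom)
  let so : Zo ⟶ A.P := Over.homMk s (by
    show s ≫ A.P.hom = g i ≫ A.base.hom
    rw [← show s ≫ A.π.left = g i from hs, Category.assoc, Over.w A.π])
  have sq := ((AlgSt.isPullback_whiskerLeft so).paste_horiz A.cart).map (Over.forget S)
  have e : (Over.forget S).map (so ≫ A.π) = g i := hs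
  rw [e] at sq
  have hG : IsAffineHom (snd G Zo).left := by
    have h : IsPullback (fst G Zo).left (snd G Zo).left G.hom Zo.hom := by
      simp only [Over.fst_left, Over.snd_left]
      exact .of_hasPullback _ _
    exact MorphismProperty.of_isPullback (P := @IsAffineHom) h inferInstance
  have sq' : IsPullback ((G ◁ so) ≫ A.act.act).left (snd G Zo).left A.π.left (g i) := sq
  rw [← sq'.isoPullback_inv_snd]
  exact (MorphismProperty.cancel_left_of_respectsIso @IsAffineHom _ _).2 hG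

variable {U : Over S} {R : Sieve U} (Γ : Stk.sieveCat R ⥤ᵇ BGq G)

/-- The total space of a member. -/
abbrev tot (a : (Stk.sieveCat R).obj) : Over S := (Γ.obj a).P

theorem base_eq (a : (Stk.sieveCat R).obj) : (Γ.obj a).base = a.obj.left := Γ.w_obj a

/-- The projection of a member. -/
def pr (a : (Stk.sieveCat R).obj) : tot Γ a ⟶ a.obj.left := (Γ.obj a).π ≫ eqToHom (base_eq Γ a)

theorem base_map' {a b : (Stk.sieveCat R).obj} (φ : a ⟶ b) :
    (Γ.map φ).base ≫ eqToHom (base_eq Γ b) = eqToHom (base_eq Γ a) ≫ φ.hom.left :=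
  sieveMap_base Γ φ

theorem isPullback_pr {a b : (Stk.sieveCat R).obj} (φ : a ⟶ b) :
    IsPullback (Γ.map φ).top (pr Γ a) (pr Γ b) φ.hom.left :=
  (Γ.map φ).cart.paste_vert (IsPullback.of_vert_isIso ⟨base_map' Γ φ⟩)

/-- An object of the sieve from a morphism to the vertex. -/
abbrev mkObj {W : Over S} (g : W ⟶ U) (hg : R g) : (Stk.sieveCat R).obj := ⟨Over.mk g, hg⟩

/-- A morphism of objects of the sieve. -/
abbrev mkHom {a b : (Stk.sieveCat R).obj} (k : a.obj.left ⟶ b.obj.left) (e : k ≫ b.obj.hom = a.obj.hom) : a ⟶ b :=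
  ObjectProperty.homMk (Over.homMk k e)

theorem hom_eq {a b : (Stk.sieveCat R).obj} {φ ψ : a ⟶ b} (h : φ.hom.left = ψ.hom.left) : φ = ψ :=
  ObjectProperty.hom_ext _ (Over.OverMorphism.ext h)

theorem pullback_left {A B C D : Over S} {f : A ⟶ B} {g : A ⟶ C} {h : B ⟶ D} {k : C ⟶ D}
    (sq : IsPullback f g h k) : IsPullback f.left g.left h.left k.left :=
  sq.map (Over.forget S)

section transport

variable {a b : (Stk.sieveCat R).obj} {T : Scheme.{u}} (v : T ⟶ (tot Γ a).left) (y : T ⟶ b.obj.left.left)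

theorem cond_hom (e : v ≫ (pr Γ a).left ≫ a.obj.hom.left = y ≫ b.obj.hom.left) :
    y ≫ b.obj.left.hom = v ≫ (tot Γ a).hom := by
  rw [← Over.w b.obj.hom, ← Category.assoc]
  erw [← e]
  rw [Category.assoc, Category.assoc]
  erw [Over.w a.obj.hom, Over.w (pr Γ a)]

/-- The object over a common point. -/
def cObj : (Stk.sieveCat R).obj :=
  mkObj ((Over.homMk (v ≫ (pr Γ a).left) (by rw [Category.assoc, Over.w]; rfl) :
    Over.mk (v ≫ (tot Γ a).hom) ⟶ a.obj.left) ≫ a.obj.hom) (R.downward_closed a.property _)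

/-- The morphism to the first. -/
def cFst : cObj Γ v ⟶ a :=
  mkHom (Over.homMk (v ≫ (pr Γ a).left) (by
    show (v ≫ (pr Γ a).left) ≫ a.obj.left.hom = v ≫ (tot Γ a).hom
    rw [Category.assoc, Over.w])) rfl

variable (e : v ≫ (pr Γ a).left ≫ a.obj.hom.left = y ≫ b.obj.hom.left)

/-- The morphism to the second. -/
def cSnd : cObj Γ v ⟶ b :=
  mkHom (Over.homMk y (cond_hom Γ v y e)) (by
    ext1
    show y ≫ b.obj.hom.left = (v ≫ (pr Γ a).left) ≫ a.obj.hom.left
    rw [Category.assoc]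
    exact e.symm)

/-- The lift of a point to the common object. -/
def cLift : T ⟶ (tot Γ (cObj Γ v)).left :=
  (pullback_left (isPullback_pr Γ (cFst Γ v))).lift v (𝟙 T) (Category.id_comp _).symm

/-- Transport of a point from one member to another. -/
def tr : T ⟶ (tot Γ b).left := cLift Γ v ≫ (Γ.map (cSnd Γ v y e)).top.left

theorem tr_eq {c : (Stk.sieveCat R).obj} (ca : c ⟶ a) (cb : c ⟶ b) (p : T ⟶ (tot Γ c).left)
    (hv : p ≫ (Γ.map ca).top.left = v) (hy : (p ≫ (pr Γ c).left) ≫ cb.hom.left.left = y) :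
    tr Γ v y e = p ≫ (Γ.map cb).top.left := by
  have hca : (p ≫ (pr Γ c).left) ≫ ca.hom.left.left = v ≫ (pr Γ a).left := by
    rw [← hv, Category.assoc, Category.assoc, (pullback_left (isPullback_pr Γ ca)).w]
  let k : (cObj Γ v).obj.left ⟶ c.obj.left := Over.homMk (p ≫ (pr Γ c).left) (by
    show (p ≫ (pr Γ c).left) ≫ c.obj.left.hom = v ≫ (tot Γ a).hom
    rw [Category.assoc, Over.w, ← hv, Category.assoc, Over.w])
  have hk : k ≫ c.obj.hom = (cObj Γ v).obj.hom := by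
    ext1
    show (p ≫ (pr Γ c).left) ≫ c.obj.hom.left = (v ≫ (pr Γ a).left) ≫ a.obj.hom.left
    rw [← hca]
    rw [Category.assoc _ ca.hom.left.left]
    congr 1
    exact congrArg CategoryTheory.CommaMorphism.left (Over.w ca.hom).symm
  let n : cObj Γ v ⟶ c := mkHom k hk
  have e1 : n ≫ ca = cFst Γ v := hom_eq (Over.OverMorphism.ext hca)
  have e2 : n ≫ cb = cSnd Γ v y e := hom_eq (Over.OverMorphism.ext hy)
  have e3 : cLift Γ v ≫ (Γ.map n).top.left = p := by
    refine (pullback_left (isPullback_pr Γ ca)).hom_ext ?_ ?_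
    · rw [hv, Category.assoc, ← Over.comp_left, ← AlgSt.QuotObj.comp_top, ← Functor.map_comp, e1]
      exact IsPullback.lift_fst _ _ _ _
    · rw [Category.assoc, (pullback_left (isPullback_pr Γ n)).w, ← Category.assoc]
      erw [IsPullback.lift_snd]
      exact Category.id_comp _
  rw [tr, ← e2, Functor.map_comp, AlgSt.QuotObj.comp_top, Over.comp_left, ← Category.assoc, e3]

theorem tr_pr : tr Γ v y e ≫ (pr Γ b).left = y := by
  rw [tr, Category.assoc, (pullback_left (isPullback_pr Γ (cSnd Γ v y e))).w, ← Category.assoc]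
  erw [IsPullback.lift_snd]
  exact Category.id_comp _

theorem tr_comp {T' : Scheme.{u}} (g : T' ⟶ T) (e' : (g ≫ v) ≫ (pr Γ a).left ≫ a.obj.hom.left = (g ≫ y) ≫ b.obj.hom.left) :
    tr Γ (g ≫ v) (g ≫ y) e' = g ≫ tr Γ v y e := by
  rw [tr_eq Γ (g ≫ v) (g ≫ y) e' (cFst Γ v) (cSnd Γ v y e) (g ≫ cLift Γ v) (by
      rw [Category.assoc]; exact congrArg (g ≫ ·) (IsPullback.lift_fst _ _ _ _)) (by
      rw [Category.assoc g]
      erw [IsPullback.lift_snd]
      rw [Category.comp_id]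
      rfl), tr, Category.assoc]

theorem tr_map {a' : (Stk.sieveCat R).obj} (φ : a ⟶ a') (e')
    : tr Γ (v ≫ (Γ.map φ).top.left) y e' = tr Γ v y e := by
  rw [tr_eq Γ (v ≫ (Γ.map φ).top.left) y e' (cFst Γ v ≫ φ) (cSnd Γ v y e) (cLift Γ v) (by
      rw [Functor.map_comp, AlgSt.QuotObj.comp_top, Over.comp_left, ← Category.assoc]
      congr 1
      exact IsPullback.lift_fst _ _ _ _) (by
      erw [IsPullback.lift_snd]
      exact Category.id_comp _), tr]

theorem tr_tr {c : (Stk.sieveCat R).obj} (z : T ⟶ c.obj.left.left) (e' : tr Γ v y e ≫ (pr Γ b).left ≫ b.obj.hom.left = z ≫ c.obj.hom.left)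
    (e'' : v ≫ (pr Γ a).left ≫ a.obj.hom.left = z ≫ c.obj.hom.left) :
    tr Γ (tr Γ v y e) z e' = tr Γ v z e'' := by
  rw [tr_eq Γ (tr Γ v y e) z e' (cSnd Γ v y e) (cSnd Γ v z e'') (cLift Γ v) rfl (by
      erw [IsPullback.lift_snd]
      exact Category.id_comp _)]
  rfl

end transport

attribute [irreducible] tr

theorem tr_self {a : (Stk.sieveCat R).obj} {T : Scheme.{u}} (v : T ⟶ (tot Γ a).left) (e) :
    tr Γ (b := a) v (v ≫ (pr Γ a).left) e = v := by
  rw [tr_eq Γ v _ e (𝟙 a) (𝟙 a) v]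
  · simp
  · simp
  · show _ ≫ 𝟙 _ = _
    exact Category.comp_id _

theorem tr_self' {a : (Stk.sieveCat R).obj} {T : Scheme.{u}} (v : T ⟶ (tot Γ a).left) {y : T ⟶ a.obj.left.left}
    (hy : v ≫ (pr Γ a).left = y) (e) : tr Γ (b := a) v y e = v := by
  subst hy
  exact tr_self Γ v e

variable {κ : Type u} {Wf : κ → Scheme.{u}} {f : ∀ k, Wf k ⟶ U.left}
  (hf : Presieve.ofArrows Wf f ∈ Scheme.fpqcPrecoverage U.left)
  (hR : ∀ k, R (Over.homMk (f k) : Over.mk (f k ≫ U.hom) ⟶ U))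

/-- A member of the covering family as an object of the sieve. -/
abbrev memObj (k : κ) : (Stk.sieveCat R).obj := mkObj (Over.homMk (f k) : Over.mk (f k ≫ U.hom) ⟶ U) (hR k)

/-- The projection to the vertex. -/
abbrev rho (a : (Stk.sieveCat R).obj) : (tot Γ a).left ⟶ U.left := (pr Γ a).left ≫ a.obj.hom.left

/-- The projection of a member of the family. -/
def prM (k : κ) : (tot Γ (memObj hR k)).left ⟶ Wf k := (pr Γ (memObj hR k)).left

theorem prM_rho {T : Scheme.{u}} {k : κ} {v : T ⟶ (tot Γ (memObj hR k)).left} {y : T ⟶ Wf k}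
    (hv : v ≫ prM Γ hR k = y) : v ≫ rho Γ (memObj hR k) = y ≫ f k := by
  subst hv
  exact (Category.assoc _ _ _).symm

/-- Transport to a member of the family. -/
def trM (a : (Stk.sieveCat R).obj) (k : κ) {T : Scheme.{u}} (v : T ⟶ (tot Γ a).left) (y : T ⟶ Wf k)
    (e : v ≫ rho Γ a = y ≫ f k) : T ⟶ (tot Γ (memObj hR k)).left :=
  tr Γ (a := a) (b := memObj hR k) v y e

/-- Transport from a member of the family. -/
def trB (a : (Stk.sieveCat R).obj) (k : κ) {T : Scheme.{u}} (v : T ⟶ (tot Γ (memObj hR k)).left)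
    (x : T ⟶ a.obj.left.left) (e : v ≫ rho Γ (memObj hR k) = x ≫ a.obj.hom.left) : T ⟶ (tot Γ a).left :=
  tr Γ (a := memObj hR k) (b := a) v x e

theorem trM_pr (a : (Stk.sieveCat R).obj) (k : κ) {T : Scheme.{u}} (v : T ⟶ (tot Γ a).left) (y : T ⟶ Wf k) (e) :
    trM Γ hR a k v y e ≫ prM Γ hR k = y :=
  tr_pr Γ (a := a) (b := memObj hR k) v y e

theorem trB_pr (a : (Stk.sieveCat R).obj) (k : κ) {T : Scheme.{u}} (v : T ⟶ (tot Γ (memObj hR k)).left)
    (x : T ⟶ a.obj.left.left) (e) : trB Γ hR a k v x e ≫ (pr Γ a).left = x :=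
  tr_pr Γ (a := memObj hR k) (b := a) v x e

theorem trM_comp (a : (Stk.sieveCat R).obj) (k : κ) {T T' : Scheme.{u}} (g : T' ⟶ T) (v : T ⟶ (tot Γ a).left)
    (y : T ⟶ Wf k) (e) (e') : trM Γ hR a k (g ≫ v) (g ≫ y) e' = g ≫ trM Γ hR a k v y e :=
  tr_comp Γ (a := a) (b := memObj hR k) v y e g e'

theorem trM_map {a a' : (Stk.sieveCat R).obj} (φ : a ⟶ a') (k : κ) {T : Scheme.{u}} (v : T ⟶ (tot Γ a).left)
    (y : T ⟶ Wf k) (e) (e') : trM Γ hR a' k (v ≫ (Γ.map φ).top.left) y e' = trM Γ hR a k v y e :=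
  tr_map Γ (a := a) (b := memObj hR k) v y e φ e'

theorem trM_trM (a : (Stk.sieveCat R).obj) (i j : κ) {T : Scheme.{u}} (v : T ⟶ (tot Γ a).left)
    (y : T ⟶ Wf i) (e) (y' : T ⟶ Wf j) (e') (e'') :
    trM Γ hR (memObj hR i) j (trM Γ hR a i v y e) y' e' = trM Γ hR a j v y' e'' :=
  tr_tr Γ (a := a) (b := memObj hR i) (c := memObj hR j) v y e y' e' e''

theorem trM_self (k : κ) {T : Scheme.{u}} (v : T ⟶ (tot Γ (memObj hR k)).left) {y : T ⟶ Wf k}
    (hy : v ≫ prM Γ hR k = y) (e) : trM Γ hR (memObj hR k) k v y e = v :=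
  tr_self' Γ (a := memObj hR k) v hy e

theorem trM_trB (a : (Stk.sieveCat R).obj) (k : κ) {T : Scheme.{u}} (v : T ⟶ (tot Γ (memObj hR k)).left)
    (x : T ⟶ a.obj.left.left) (e) {y : T ⟶ Wf k} (hy : v ≫ prM Γ hR k = y) (e') :
    trM Γ hR a k (trB Γ hR a k v x e) y e' = v :=
  (tr_tr Γ (a := memObj hR k) (b := a) (c := memObj hR k) v x e y e' (prM_rho Γ hR hy)).trans
    (tr_self' Γ (a := memObj hR k) v hy _)

theorem trB_trM (a : (Stk.sieveCat R).obj) (k : κ) {T : Scheme.{u}} (v : T ⟶ (tot Γ a).left) (y : T ⟶ Wf k) (e)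
    {x : T ⟶ a.obj.left.left} (hx : v ≫ (pr Γ a).left = x) (e') :
    trB Γ hR a k (trM Γ hR a k v y e) x e' = v :=
  (tr_tr Γ (a := a) (b := memObj hR k) (c := a) v y e x e' (by
    subst hx; exact (Category.assoc _ _ _).symm)).trans (tr_self' Γ (a := a) v hx _)

attribute [irreducible] trM trB

/-- Transport between members of the family, on points over given points. -/
def trFun {T : Scheme.{u}} {i j : κ} (x₀ : T ⟶ Wf i) (x₁ : T ⟶ Wf j) (h : x₀ ≫ f i = x₁ ≫ f j)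
    (v : Desc.Lifts (Over.mk (prM Γ hR i)) x₀) : Desc.Lifts (Over.mk (prM Γ hR j)) x₁ :=
  ⟨trM Γ hR (memObj hR i) j v.1 x₁ ((prM_rho Γ hR v.2).trans h), trM_pr Γ hR _ _ _ _ _⟩

theorem trFun_trFun {T : Scheme.{u}} {i j k : κ} (x₀ : T ⟶ Wf i) (x₁ : T ⟶ Wf j) (x₂ : T ⟶ Wf k)
    (h : x₀ ≫ f i = x₁ ≫ f j) (h' : x₁ ≫ f j = x₂ ≫ f k) (v) :
    trFun Γ hR x₁ x₂ h' (trFun Γ hR x₀ x₁ h v) = trFun Γ hR x₀ x₂ (h.trans h') v :=
  Subtype.ext (trM_trM Γ hR _ _ _ _ _ _ _ _ _)

theorem trFun_self {T : Scheme.{u}} {i : κ} (x₀ : T ⟶ Wf i) (v) : trFun Γ hR x₀ x₀ rfl v = v :=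
  Subtype.ext (trM_self Γ hR i v.1 v.2 _)

theorem trFun_natural {T T' : Scheme.{u}} (g : T' ⟶ T) {i j : κ} (x₀ : T ⟶ Wf i) (x₁ : T ⟶ Wf j)
    (h : x₀ ≫ f i = x₁ ≫ f j) (y₀ : T' ⟶ Wf i) (y₁ : T' ⟶ Wf j) (e₁ : g ≫ x₁ = y₁) (h' : y₀ ≫ f i = y₁ ≫ f j)
    (v) (v' : Desc.Lifts (Over.mk (prM Γ hR i)) y₀) (hv : v'.1 = g ≫ v.1) :
    (trFun Γ hR y₀ y₁ h' v').1 = g ≫ (trFun Γ hR x₀ x₁ h v).1 := by
  obtain ⟨v', hv'⟩ := v'
  cases hv
  subst e₁
  exact trM_comp Γ hR _ _ g v.1 x₁ _ _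

/-- The descent datum of the total spaces. -/
def dd : Desc.SchDDFam f where
  obj k := Over.mk (prM Γ hR k)
  φ T i j x₀ x₁ h :=
    { toFun := trFun Γ hR x₀ x₁ h
      invFun := trFun Γ hR x₁ x₀ h.symm
      left_inv := fun v => (trFun_trFun Γ hR x₀ x₁ x₀ h h.symm v).trans (trFun_self Γ hR x₀ v)
      right_inv := fun v => (trFun_trFun Γ hR x₁ x₀ x₁ h.symm h v).trans (trFun_self Γ hR x₁ v) }
  φ_natural T T' g i j x₀ x₁ h y₀ y₁ e₀ e₁ h' v v' hv := trFun_natural Γ hR g x₀ x₁ h y₀ y₁ e₁ h' v v' hv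
  φ_self T i x v := trFun_self Γ hR x v
  φ_comp T i j k x₀ x₁ x₂ h₀₁ h₁₂ v := trFun_trFun Γ hR x₀ x₁ x₂ h₀₁ h₁₂ v

/-- The glued scheme receives the members compatibly. -/
def Good {Z : Scheme.{u}} (q : Z ⟶ U.left) (t : ∀ k, (tot Γ (memObj hR k)).left ⟶ Z) : Prop :=
  (∀ k, IsPullback (t k) (prM Γ hR k) q (f k)) ∧
    ∀ ⦃T : Scheme.{u}⦄ (i j : κ) (v : T ⟶ (tot Γ (memObj hR i)).left) (y : T ⟶ Wf j) (e),
      trM Γ hR (memObj hR i) j v y e ≫ t j = v ≫ t i

include hf in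
theorem exists_glue_obj [IsAffineHom G.hom] :
    ∃ (Z : Scheme.{u}) (q : Z ⟶ U.left) (t : ∀ k, (tot Γ (memObj hR k)).left ⟶ Z), Good Γ hR q t := by
  have haff : ∀ k, MoreMor.IsIndQuasiAffineHom ((dd Γ hR).obj k).hom := fun k => by
    have h0 := isAffineHom_π (Γ.obj (memObj hR k))
    have : IsAffineHom (prM Γ hR k) :=
      (MorphismProperty.cancel_right_of_respectsIso @IsAffineHom (Γ.obj (memObj hR k)).π.left
        (eqToHom (base_eq Γ (memObj hR k))).left).2 h0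
    exact Groth.L20.isIndQuasiAffineHom_of_isQuasiAffineHom (prM Γ hR k)
      ⟨inferInstance, fun O hO => by
        have : IsAffine ((prM Γ hR k) ⁻¹ᵁ O).toScheme := hO.preimage (prM Γ hR k)
        infer_instance⟩
  obtain ⟨Z, ⟨i⟩⟩ := Groth.L20.SchDesc.isEffective_of_isIndQuasiAffineHom (dd Γ hR) hf haff
  let t : ∀ k, (tot Γ (memObj hR k)).left ⟶ Z.left := fun k => (i.inv.hom k).left ≫ pullback.snd (f k) Z.hom
  refine ⟨Z.left, Z.hom, t, fun k => ?_, fun T i' j v y e => ?_⟩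
  · have hi : (i.inv.hom k).left ≫ (i.hom.hom k).left = 𝟙 _ := by
      rw [← Over.comp_left, ← Desc.SchDDFam.comp_hom, i.inv_hom_id]; rfl
    have hi' : (i.hom.hom k).left ≫ (i.inv.hom k).left = 𝟙 _ := by
      rw [← Over.comp_left, ← Desc.SchDDFam.comp_hom, i.hom_inv_id]; rfl
    have : IsIso (i.inv.hom k).left := ⟨_, hi, hi'⟩
    have w : (i.inv.hom k).left ≫ pullback.fst (f k) Z.hom = prM Γ hR k := Over.w (i.inv.hom k)
    refine IsPullback.of_iso_pullback ⟨?_⟩ (@asIso _ _ _ _ (i.inv.hom k).left this ≪≫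
      pullbackSymmetry (f k) Z.hom) ?_ ?_
    · exact (Category.assoc _ _ _).trans ((congrArg ((i.inv.hom k).left ≫ ·) pullback.condition.symm).trans
        ((Category.assoc _ _ _).symm.trans (congrArg (· ≫ f k) w)))
    · exact (Category.assoc _ _ _).trans (congrArg ((i.inv.hom k).left ≫ ·) (pullbackSymmetry_hom_comp_fst _ _))
    · exact (Category.assoc _ _ _).trans ((congrArg ((i.inv.hom k).left ≫ ·) (pullbackSymmetry_hom_comp_snd _ _)).trans w)
  · have e0 : (v ≫ prM Γ hR i') ≫ f i' = y ≫ f j := (prM_rho Γ hR rfl).symm.trans e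
    let wv : Desc.Lifts (((Desc.toDDFam f).obj Z).obj i') (v ≫ prM Γ hR i') :=
      Desc.SchDDFam.Hom.push i.inv (⟨v, rfl⟩ : Desc.Lifts ((dd Γ hR).obj i') (v ≫ prM Γ hR i'))
    have h := i.inv.comm (v ≫ prM Γ hR i') y e0 ⟨v, rfl⟩ wv rfl
    calc trM Γ hR (memObj hR i') j v y e ≫ t j
        = (trM Γ hR (memObj hR i') j v y e ≫ (i.inv.hom j).left) ≫ pullback.snd (f j) Z.hom :=
          (Category.assoc _ _ _).symm
      _ = (((Desc.toDDFam f).obj Z).φ (v ≫ prM Γ hR i') y e0 wv).1 ≫ pullback.snd (f j) Z.hom :=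
          congrArg (· ≫ pullback.snd (f j) Z.hom) h.symm
      _ = wv.1 ≫ pullback.snd (f i') Z.hom := pullback.lift_snd _ _ _
      _ = v ≫ t i' := Category.assoc _ _ _

section cocone

variable {Z : Scheme.{u}} {q : Z ⟶ U.left} {t : ∀ k, (tot Γ (memObj hR k)).left ⟶ Z}

/-- The map from a member of the sieve. -/
def IsMap (t : ∀ k, (tot Γ (memObj hR k)).left ⟶ Z) (a : (Stk.sieveCat R).obj) (m : (tot Γ a).left ⟶ Z) : Prop :=
  ∀ ⦃T : Scheme.{u}⦄ (k : κ) (v : T ⟶ (tot Γ a).left) (y : T ⟶ Wf k) (e : v ≫ rho Γ a = y ≫ f k),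
      v ≫ m = trM Γ hR a k v y e ≫ t k

variable (ht : Good Γ hR q t)

include hf in
theorem cov_mem {T : Scheme.{u}} (h : T ⟶ U.left) :
    Presieve.ofArrows (fun k => pullback h (f k)) (fun k => pullback.fst h (f k)) ∈ Scheme.fpqcPrecoverage T :=
  Precoverage.mem_coverings_of_isPullback f hf h _ (fun k => pullback.snd h (f k))
    (fun k => IsPullback.of_hasPullback _ _)

include hf in
theorem ext_cov {T : Scheme.{u}} (h : T ⟶ U.left) {Y : Scheme.{u}} {p p' : T ⟶ Y}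
    (hh : ∀ k, pullback.fst h (f k) ≫ p = pullback.fst h (f k) ≫ p') : p = p' :=
  Groth.L20.SchDesc.eq_of_family _ (cov_mem hf h) hh

theorem piece_cond {T T' : Scheme.{u}} {a : (Stk.sieveCat R).obj} {k : κ} (g : T' ⟶ T) {v : T ⟶ (tot Γ a).left}
    {y : T ⟶ Wf k} (e : v ≫ rho Γ a = y ≫ f k) : (g ≫ v) ≫ rho Γ a = (g ≫ y) ≫ f k := by
  rw [Category.assoc, e, Category.assoc]

include hf ht in
theorem exists_isMap (a : (Stk.sieveCat R).obj) : ∃ m, IsMap Γ hR t a m := by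
  obtain ⟨m, hm⟩ := Groth.L20.SchDesc.exists_desc_family _ (cov_mem hf (rho Γ a))
    (fun k => trM Γ hR a k (pullback.fst (rho Γ a) (f k)) (pullback.snd (rho Γ a) (f k)) pullback.condition ≫ t k)
    (fun {T} i j p p' hp => by
      have ei := piece_cond Γ p (pullback.condition (f := rho Γ a) (g := f i))
      have ej' := piece_cond Γ p' (pullback.condition (f := rho Γ a) (g := f j))
      have ej : (p ≫ pullback.fst (rho Γ a) (f i)) ≫ rho Γ a = (p' ≫ pullback.snd (rho Γ a) (f j)) ≫ f j := by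
        rw [hp]; exact ej'
      have e2 : trM Γ hR a i (p ≫ pullback.fst (rho Γ a) (f i)) (p ≫ pullback.snd (rho Γ a) (f i)) ei ≫
          rho Γ (memObj hR i) = (p' ≫ pullback.snd (rho Γ a) (f j)) ≫ f j :=
        (prM_rho Γ hR (trM_pr Γ hR _ _ _ _ _)).trans (ei.symm.trans ej)
      rw [← Category.assoc, ← trM_comp Γ hR a i p _ _ _ ei, ← Category.assoc,
        ← trM_comp Γ hR a j p' _ _ _ ej']
      simp only [← hp]
      rw [← trM_trM Γ hR a i j _ _ ei _ e2 ej, ht.2 i j _ _ e2])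
  refine ⟨m, fun T k v y e => ?_⟩
  have h1 : pullback.lift v y e ≫ pullback.fst (rho Γ a) (f k) = v := pullback.lift_fst _ _ _
  have h2 : pullback.lift v y e ≫ pullback.snd (rho Γ a) (f k) = y := pullback.lift_snd _ _ _
  calc v ≫ m = (pullback.lift v y e ≫ pullback.fst (rho Γ a) (f k)) ≫ m := by rw [h1]
    _ = (pullback.lift v y e ≫ trM Γ hR a k (pullback.fst (rho Γ a) (f k)) (pullback.snd (rho Γ a) (f k))
        pullback.condition) ≫ t k := by rw [Category.assoc, hm k, Category.assoc]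
    _ = _ := by
      rw [← trM_comp Γ hR a k (pullback.lift v y e) _ _ _ (piece_cond Γ _ pullback.condition)]
      simp only [h1, h2]

variable {m : ∀ a, (tot Γ a).left ⟶ Z} (hm : ∀ a, IsMap Γ hR t a (m a))

include hf ht hm in
theorem map_q (a : (Stk.sieveCat R).obj) : m a ≫ q = rho Γ a := ext_cov hf (rho Γ a) fun k => by
  rw [← Category.assoc, hm a k (pullback.fst (rho Γ a) (f k)) (pullback.snd (rho Γ a) (f k)) pullback.condition,
    Category.assoc, (ht.1 k).w, ← Category.assoc, trM_pr Γ hR]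
  exact pullback.condition.symm

include hf hm in
theorem map_natural {a b : (Stk.sieveCat R).obj} (φ : a ⟶ b) : (Γ.map φ).top.left ≫ m b = m a := by
  refine ext_cov hf (rho Γ a) fun k => ?_
  have w : φ.hom.left.left ≫ b.obj.hom.left = a.obj.hom.left :=
    congrArg CategoryTheory.CommaMorphism.left (Over.w φ.hom)
  have e : (pullback.fst (rho Γ a) (f k) ≫ (Γ.map φ).top.left) ≫ rho Γ b =
      pullback.snd (rho Γ a) (f k) ≫ f k := by
    rw [Category.assoc, ← Category.assoc (Γ.map φ).top.left, (pullback_left (isPullback_pr Γ φ)).w,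
      Category.assoc, w]
    exact pullback.condition
  rw [← Category.assoc, hm b k _ (pullback.snd (rho Γ a) (f k)) e,
    hm a k _ (pullback.snd (rho Γ a) (f k)) pullback.condition, trM_map Γ hR φ k _ _ pullback.condition e]

include ht hm in
theorem lift_unique_aux (a : (Stk.sieveCat R).obj) {T : Scheme.{u}} (k : κ) (v v' : T ⟶ (tot Γ a).left)
    (y : T ⟶ Wf k) (c : v ≫ rho Γ a = y ≫ f k) (h1 : v ≫ m a = v' ≫ m a)
    (h2 : v ≫ (pr Γ a).left = v' ≫ (pr Γ a).left) : v = v' := by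
  have hr : v ≫ rho Γ a = v' ≫ rho Γ a :=
    (Category.assoc _ _ _).symm.trans ((congrArg (· ≫ a.obj.hom.left) h2).trans (Category.assoc _ _ _))
  have c' : v' ≫ rho Γ a = y ≫ f k := hr.symm.trans c
  have heq : trM Γ hR a k v y c = trM Γ hR a k v' y c' := by
    refine (ht.1 k).hom_ext ?_ ?_
    · rw [← hm a k v y c, ← hm a k v' y c', h1]
    · rw [trM_pr, trM_pr]
  have ex : trM Γ hR a k v y c ≫ rho Γ (memObj hR k) = (v ≫ (pr Γ a).left) ≫ a.obj.hom.left :=
    (prM_rho Γ hR (trM_pr Γ hR _ _ _ _ _)).trans (c.symm.trans (Category.assoc _ _ _).symm)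
  rw [← trB_trM Γ hR a k v y c rfl ex, ← trB_trM Γ hR a k v' y c' h2.symm (heq ▸ ex)]
  congr 1

include hf ht hm in
theorem lift_unique (a : (Stk.sieveCat R).obj) {T : Scheme.{u}} (v v' : T ⟶ (tot Γ a).left)
    (h1 : v ≫ m a = v' ≫ m a) (h2 : v ≫ (pr Γ a).left = v' ≫ (pr Γ a).left) : v = v' :=
  ext_cov hf (v ≫ rho Γ a) fun k => lift_unique_aux Γ hR ht hm a k _ _ (pullback.snd (v ≫ rho Γ a) (f k))
    ((Category.assoc _ _ _).trans pullback.condition) (by rw [Category.assoc, h1, Category.assoc])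
    (by rw [Category.assoc, h2, Category.assoc])

include ht hm in
theorem lift_exists_aux (a : (Stk.sieveCat R).obj) {T : Scheme.{u}} (k : κ) (z : T ⟶ Z) (x : T ⟶ a.obj.left.left)
    (y : T ⟶ Wf k) (h : z ≫ q = x ≫ a.obj.hom.left) (hy : z ≫ q = y ≫ f k) :
    ∃ v : T ⟶ (tot Γ a).left, v ≫ m a = z ∧ v ≫ (pr Γ a).left = x := by
  have hz : (ht.1 k).lift z y hy ≫ prM Γ hR k = y := (ht.1 k).lift_snd _ _ _
  have ek : (ht.1 k).lift z y hy ≫ rho Γ (memObj hR k) = x ≫ a.obj.hom.left :=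
    (prM_rho Γ hR hz).trans (hy.symm.trans h)
  refine ⟨trB Γ hR a k _ x ek, ?_, trB_pr Γ hR _ _ _ _ _⟩
  have e' : trB Γ hR a k _ x ek ≫ rho Γ a = y ≫ f k :=
    ((Category.assoc _ _ _).symm.trans (congrArg (· ≫ a.obj.hom.left) (trB_pr Γ hR _ _ _ _ _))).trans
      (h.symm.trans hy)
  rw [hm a k _ y e', trM_trB Γ hR a k _ x ek hz, (ht.1 k).lift_fst]

include hf ht hm in
theorem lift_exists (a : (Stk.sieveCat R).obj) {T : Scheme.{u}} (z : T ⟶ Z) (x : T ⟶ a.obj.left.left)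
    (h : z ≫ q = x ≫ a.obj.hom.left) : ∃ v : T ⟶ (tot Γ a).left, v ≫ m a = z ∧ v ≫ (pr Γ a).left = x := by
  choose val v1 v2 using fun k => lift_exists_aux Γ hR ht hm a k (pullback.fst (z ≫ q) (f k) ≫ z)
    (pullback.fst (z ≫ q) (f k) ≫ x) (pullback.snd (z ≫ q) (f k)) (by rw [Category.assoc, h, Category.assoc])
    ((Category.assoc _ _ _).trans pullback.condition)
  obtain ⟨v, hv⟩ := Groth.L20.SchDesc.exists_desc_family _ (cov_mem hf (z ≫ q)) val (fun {T'} i j p p' hp => by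
    refine lift_unique Γ hf hR ht hm a _ _ ?_ ?_
    · rw [Category.assoc, v1, Category.assoc, v1, ← Category.assoc, hp, Category.assoc]
    · rw [Category.assoc, v2, Category.assoc, v2, ← Category.assoc, hp, Category.assoc])
  refine ⟨v, ext_cov hf (z ≫ q) fun k => ?_, ext_cov hf (z ≫ q) fun k => ?_⟩
  · rw [← Category.assoc, hv, v1]
  · rw [← Category.assoc, hv, v2]

include hf ht hm in
theorem isPullback_map (a : (Stk.sieveCat R).obj) : IsPullback (m a) (pr Γ a).left q a.obj.hom.left :=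
  ⟨⟨map_q Γ hf hR ht hm a⟩, ⟨PullbackCone.IsLimit.mk _
    (fun s => (lift_exists Γ hf hR ht hm a s.fst s.snd s.condition).choose)
    (fun s => (lift_exists Γ hf hR ht hm a s.fst s.snd s.condition).choose_spec.1)
    (fun s => (lift_exists Γ hf hR ht hm a s.fst s.snd s.condition).choose_spec.2)
    (fun s l h1 h2 => lift_unique Γ hf hR ht hm a _ _
      (h1.trans (lift_exists Γ hf hR ht hm a s.fst s.snd s.condition).choose_spec.1.symm)
      (h2.trans (lift_exists Γ hf hR ht hm a s.fst s.snd s.condition).choose_spec.2.symm))⟩⟩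

end cocone

include hf hR in
theorem exists_cocone [IsAffineHom G.hom] :
    ∃ (P : Over S) (π : P ⟶ U) (τ : ∀ a : (Stk.sieveCat R).obj, tot Γ a ⟶ P),
      (∀ a, IsPullback (τ a) (pr Γ a) π a.obj.hom) ∧
      ∀ {a b : (Stk.sieveCat R).obj} (φ : a ⟶ b), (Γ.map φ).top ≫ τ b = τ a := by
  obtain ⟨Z, q, t, ht⟩ := exists_glue_obj Γ hf hR
  choose m hm using exists_isMap Γ hf hR (q := q) ht
  let P : Over S := Over.mk (q ≫ U.hom)
  let π : P ⟶ U := Over.homMk q rfl
  let τ : ∀ a, tot Γ a ⟶ P := fun a => Over.homMk (m a) (by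
    show m a ≫ q ≫ U.hom = _
    rw [← Category.assoc, map_q Γ hf hR ht hm a]
    show ((pr Γ a).left ≫ a.obj.hom.left) ≫ U.hom = _
    rw [Category.assoc, Over.w, Over.w])
  refine ⟨P, π, τ, fun a => ?_, fun {a b} φ => Over.OverMorphism.ext (map_natural Γ hf hR hm φ)⟩
  exact IsPullback.of_map (Over.forget S) (Over.OverMorphism.ext (map_q Γ hf hR ht hm a))
    (isPullback_map Γ hf hR ht hm a)

/-- Two points of members over the same point of the glued scheme come from a common member. -/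
theorem exists_common {P : Over S} {π : P ⟶ U} {τ : ∀ a : (Stk.sieveCat R).obj, tot Γ a ⟶ P}
    (hτ : ∀ a, IsPullback (τ a) (pr Γ a) π a.obj.hom)
    (hτn : ∀ {a b : (Stk.sieveCat R).obj} (φ : a ⟶ b), (Γ.map φ).top ≫ τ b = τ a)
    {W : Over S} {a b : (Stk.sieveCat R).obj} (p : W ⟶ tot Γ a) (p' : W ⟶ tot Γ b) (h : p ≫ τ a = p' ≫ τ b) :
    ∃ (c : (Stk.sieveCat R).obj) (n : c ⟶ a) (n' : c ⟶ b) (l : W ⟶ tot Γ c),
      l ≫ (Γ.map n).top = p ∧ l ≫ (Γ.map n').top = p' := by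
  have hg : R ((p ≫ pr Γ a) ≫ a.obj.hom) := R.downward_closed a.property _
  have e : (p' ≫ pr Γ b) ≫ b.obj.hom = (p ≫ pr Γ a) ≫ a.obj.hom := by
    rw [Category.assoc, ← (hτ b).w, ← Category.assoc, ← h, Category.assoc, (hτ a).w, Category.assoc]
  let c := mkObj ((p ≫ pr Γ a) ≫ a.obj.hom) hg
  let n : c ⟶ a := mkHom (p ≫ pr Γ a) rfl
  let n' : c ⟶ b := mkHom (p' ≫ pr Γ b) e
  let l : W ⟶ tot Γ c := (isPullback_pr Γ n).lift p (𝟙 W) (Category.id_comp _).symm
  refine ⟨c, n, n', l, IsPullback.lift_fst _ _ _ _, ?_⟩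
  refine (hτ b).hom_ext ?_ ?_
  · rw [Category.assoc, hτn, ← h, ← hτn n, ← Category.assoc]
    congr 1
    exact IsPullback.lift_fst _ _ _ _
  · rw [Category.assoc, (isPullback_pr Γ n').w, ← Category.assoc]
    erw [IsPullback.lift_snd]
    exact Category.id_comp _

include hf hR in
theorem exists_torsor [IsAffineHom G.hom] (hRJ : R ∈ Jq S U) :
    ∃ (x : (BGq G).obj) (e : (BGq G).p.obj x = U) (τ : ∀ a : (Stk.sieveCat R).obj, Γ.obj a ⟶ x),
      (∀ a, (BGq G).p.map (τ a) ≫ eqToHom e = eqToHom (Γ.w_obj a) ≫ a.obj.hom) ∧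
      ∀ {a b : (Stk.sieveCat R).obj} (φ : a ⟶ b), Γ.map φ ≫ τ b = τ a := by
  obtain ⟨P, π, τ, hτ, hτn⟩ := exists_cocone Γ hf hR
  have pts : ∀ {W : Over S} (p : W ⟶ P), R (p ≫ π) →
      ∃ (a : (Stk.sieveCat R).obj) (l : W ⟶ tot Γ a), l ≫ τ a = p := fun {W} p hp =>
    ⟨mkObj (p ≫ π) hp, (hτ _).lift p (𝟙 W) (Category.id_comp _).symm, (hτ _).lift_fst _ _ _⟩
  choose pa pl hpl using @pts
  have ext_tensor : ∀ (X : Over S) {Q : Over S} (h h' : X ⊗ P ⟶ Q),
      (∀ a, (X ◁ τ a) ≫ h = (X ◁ τ a) ≫ h') → h = h' := fun X Q h h' hh => by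
    refine hom_ext ((Jq S).pullback_stable (snd X P ≫ π) hRJ) fun W g hg => ?_
    have hp : R ((g ≫ snd X P) ≫ π) := (Category.assoc g _ _).symm ▸ hg
    obtain ⟨a, l, hl⟩ : ∃ (a : (Stk.sieveCat R).obj) (l : W ⟶ tot Γ a), l ≫ τ a = g ≫ snd X P :=
      ⟨_, _, hpl _ hp⟩
    have e : g = lift (g ≫ fst X P) l ≫ (X ◁ τ a) := by
      ext1 <;> simp [hl]
    rw [e, Category.assoc, hh, Category.assoc]
  have indep : ∀ {W : Over S} (h : W ⟶ G) {a b : (Stk.sieveCat R).obj} (p : W ⟶ tot Γ a) (p' : W ⟶ tot Γ b),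
      p ≫ τ a = p' ≫ τ b →
      (lift h p ≫ (Γ.obj a).act.act) ≫ τ a = (lift h p' ≫ (Γ.obj b).act.act) ≫ τ b := by
    intro W h a b p p' hp
    obtain ⟨c, n, n', l, rfl, rfl⟩ := exists_common Γ hτ hτn p p' hp
    have key : ∀ {d} (n : c ⟶ d), (lift h (l ≫ (Γ.map n).top) ≫ (Γ.obj d).act.act) ≫ τ d =
        (lift h l ≫ (Γ.obj c).act.act) ≫ τ c := fun {d} n => by
      rw [← hτn n, Category.assoc, Category.assoc, reassoc_of% (Γ.map n).eqv, lift_whiskerLeft_assoc]
    rw [key n, key n']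
  have hval : ∀ ⦃W : Over S⦄ (g : W ⟶ G ⊗ P), (R.pullback (snd G P ≫ π)) g →
      ∃ v : W ⟶ P, ∀ (a : (Stk.sieveCat R).obj) (p : W ⟶ tot Γ a), p ≫ τ a = g ≫ snd G P →
        v = (lift (g ≫ fst G P) p ≫ (Γ.obj a).act.act) ≫ τ a := fun W g hg => by
    have hp : R ((g ≫ snd G P) ≫ π) := (Category.assoc g _ _).symm ▸ hg
    obtain ⟨a, l, hl⟩ : ∃ (a : (Stk.sieveCat R).obj) (l : W ⟶ tot Γ a), l ≫ τ a = g ≫ snd G P :=
      ⟨_, _, hpl _ hp⟩
    exact ⟨(lift (g ≫ fst G P) l ≫ (Γ.obj a).act.act) ≫ τ a, fun b p hb => indep _ _ _ (hl.trans hb.symm)⟩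
  choose val hval using hval
  obtain ⟨α, hα⟩ := exists_glue ((Jq S).pullback_stable (snd G P ≫ π) hRJ) val (fun W' W k g g' hg hg' e => by
    subst e
    have hp : R ((g ≫ snd G P) ≫ π) := (Category.assoc g _ _).symm ▸ hg
    obtain ⟨a, l, hl⟩ : ∃ (a : (Stk.sieveCat R).obj) (l : W ⟶ tot Γ a), l ≫ τ a = g ≫ snd G P :=
      ⟨_, _, hpl _ hp⟩
    rw [hval g hg a l hl, hval (k ≫ g) hg' a (k ≫ l) (by rw [Category.assoc, hl, Category.assoc])]
    simp only [← Category.assoc]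
    congr 2
    rw [comp_lift, Category.assoc])
  have τ_act : ∀ a, (Γ.obj a).act.act ≫ τ a = (G ◁ τ a) ≫ α := fun a => by
    have hg : (R.pullback (snd G P ≫ π)) (G ◁ τ a) := by
      show R _
      rw [whiskerLeft_snd_assoc, (hτ a).w, ← Category.assoc]
      exact R.downward_closed a.property _
    rw [hα (G ◁ τ a) hg, hval (G ◁ τ a) hg a (snd G _) (by rw [whiskerLeft_snd]), whiskerLeft_fst,
      lift_fst_snd, Category.id_comp]
  let act : AlgGrp.Action G P :=
    { act := α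
      one_act := ext_tensor _ _ _ fun a => by
        rw [whisker_exchange_assoc, ← τ_act, ← Category.assoc, (Γ.obj a).act.one_act]
        simp
      mul_act := ext_tensor _ _ _ fun a => by
        rw [whisker_exchange_assoc, ← τ_act, ← Category.assoc, (Γ.obj a).act.mul_act,
          associator_naturality_right_assoc, ← MonoidalCategory.whiskerLeft_comp_assoc, ← τ_act]
        simp [τ_act]
        rw [← MonoidalCategory.whiskerLeft_comp_assoc, τ_act, MonoidalCategory.whiskerLeft_comp_assoc] }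
  have hαπ : α ≫ π = snd G P ≫ π := ext_tensor _ _ _ fun a => by
    rw [← Category.assoc, ← τ_act, Category.assoc, (hτ a).w, whiskerLeft_snd_assoc, (hτ a).w,
      ← Category.assoc, pr, ← Category.assoc _ (Γ.obj a).π, (Γ.obj a).cart.w]
    simp
  have act_eq : ∀ {W : Over S} (a : (Stk.sieveCat R).obj) (h : W ⟶ G) (p : W ⟶ tot Γ a),
      lift h (p ≫ τ a) ≫ α = (lift h p ≫ (Γ.obj a).act.act) ≫ τ a := fun a h p => by
    rw [Category.assoc, τ_act, lift_whiskerLeft_assoc]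
  have cart' : ∀ a, (Γ.obj a).act.act ≫ pr Γ a = snd G (tot Γ a) ≫ pr Γ a := fun a => by
    simp only [pr, ← Category.assoc, (Γ.obj a).cart.w]
  have uniq : ∀ {W : Over S} (l l' : W ⟶ G ⊗ P), l ≫ α = l' ≫ α → l ≫ snd G P = l' ≫ snd G P → l = l' := by
    intro W l l' h1 h2
    refine hom_ext ((Jq S).pullback_stable ((l ≫ snd G P) ≫ π) hRJ) fun W' k hk => ?_
    have hp : R ((k ≫ l ≫ snd G P) ≫ π) := (Category.assoc k _ _).symm ▸ hk
    obtain ⟨a, p, hpa⟩ : ∃ (a : (Stk.sieveCat R).obj) (p : W' ⟶ tot Γ a), p ≫ τ a = k ≫ l ≫ snd G P :=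
      ⟨_, _, hpl _ hp⟩
    have e1 : k ≫ l = lift (k ≫ l ≫ fst G P) (p ≫ τ a) := by ext1 <;> simp [hpa]
    have e2 : k ≫ l' = lift (k ≫ l' ≫ fst G P) (p ≫ τ a) := by ext1 <;> simp [hpa, h2]
    have h3 : lift (k ≫ l ≫ fst G P) p ≫ (Γ.obj a).act.act = lift (k ≫ l' ≫ fst G P) p ≫ (Γ.obj a).act.act := by
      refine (hτ a).hom_ext ?_ ?_
      · rw [← act_eq, ← act_eq, ← e1, ← e2, Category.assoc, h1, Category.assoc]
      · simp only [Category.assoc, cart', lift_snd_assoc]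
    have h4 : lift (k ≫ l ≫ fst G P) p = lift (k ≫ l' ≫ fst G P) p := (Γ.obj a).cart.hom_ext h3 (by simp)
    have h5 := congrArg (· ≫ fst G (tot Γ a)) h4
    simp only [lift_fst] at h5
    rw [e1, e2, h5]
  have exl : ∀ {W : Over S} (p p' : W ⟶ P), p ≫ π = p' ≫ π → ∃ l : W ⟶ G ⊗ P, l ≫ α = p ∧ l ≫ snd G P = p' := by
    intro W p p' h
    have hl : ∀ ⦃W' : Over S⦄ (k : W' ⟶ W), (R.pullback (p' ≫ π)) k →
        ∃ l : W' ⟶ G ⊗ P, l ≫ α = k ≫ p ∧ l ≫ snd G P = k ≫ p' := fun W' k hk => by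
      have hp : R ((k ≫ p') ≫ π) := (Category.assoc k _ _).symm ▸ hk
      obtain ⟨a, u', hu'⟩ : ∃ (a : (Stk.sieveCat R).obj) (p : W' ⟶ tot Γ a), p ≫ τ a = k ≫ p' :=
        ⟨_, _, hpl _ hp⟩
      let u : W' ⟶ tot Γ a := (hτ a).lift (k ≫ p) (u' ≫ pr Γ a) (by
        rw [Category.assoc, h, ← Category.assoc, ← hu', Category.assoc, (hτ a).w, Category.assoc])
      have e : u ≫ (Γ.obj a).π = u' ≫ (Γ.obj a).π := by
        rw [← cancel_mono (eqToHom (base_eq Γ a)), Category.assoc, Category.assoc]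
        exact (hτ a).lift_snd _ _ _
      let l := (Γ.obj a).cart.lift u u' e
      have hlu : lift (l ≫ fst G _) u' = l := by
        ext1
        · simp
        · simp [l]
      refine ⟨lift (l ≫ fst G _) (u' ≫ τ a), ?_, by rw [lift_snd]; exact hu'⟩
      rw [act_eq, hlu, IsPullback.lift_fst]
      exact (hτ a).lift_fst _ _ _
    choose L hL1 hL2 using hl
    obtain ⟨l, hl⟩ := exists_glue ((Jq S).pullback_stable (p' ≫ π) hRJ) L (fun W'' W' n k k' hk hk' e => by
      subst e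
      refine uniq _ _ ?_ ?_
      · rw [Category.assoc, hL1, hL1, Category.assoc]
      · rw [Category.assoc, hL2, hL2, Category.assoc])
    refine ⟨l, hom_ext ((Jq S).pullback_stable (p' ≫ π) hRJ) fun W' k hk => ?_,
      hom_ext ((Jq S).pullback_stable (p' ≫ π) hRJ) fun W' k hk => ?_⟩
    · rw [← Category.assoc, hl k hk, hL1]
    · rw [← Category.assoc, hl k hk, hL2]
  have cart : IsPullback α (snd G P) π π :=
    ⟨⟨hαπ⟩, ⟨PullbackCone.IsLimit.mk _ (fun s => (exl s.fst s.snd s.condition).choose)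
      (fun s => (exl s.fst s.snd s.condition).choose_spec.1) (fun s => (exl s.fst s.snd s.condition).choose_spec.2)
      (fun s l h1 h2 => uniq _ _ (h1.trans (exl s.fst s.snd s.condition).choose_spec.1.symm)
        (h2.trans (exl s.fst s.snd s.condition).choose_spec.2.symm))⟩⟩
  have loc : NonAbH1.IsLocallyTrivialFor Scheme.fpqcPrecoverage (Over.mk π.left : Over U.left) := by
    let Sec : Sieve U :=
      { arrows := fun W g => ∃ s : W ⟶ P, s ≫ π = g
        downward_closed := fun {W W'} g ⟨s, hs⟩ k => ⟨k ≫ s, by rw [Category.assoc, hs]⟩ }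
    have hSec : Sec ∈ Jq S U := (Jq S).transitive hRJ _ fun W g hg => by
      let a := mkObj g hg
      refine (Jq S).superset_covering ?_ ((Jq S).pullback_stable (eqToHom (base_eq Γ a).symm) (secSieve_mem (Γ.obj a)))
      rintro W' k ⟨s, hs⟩
      refine ⟨s ≫ τ a, ?_⟩
      rw [Category.assoc, (hτ a).w]
      show s ≫ pr Γ a ≫ g = k ≫ g
      rw [← Category.assoc]
      congr 1
      show s ≫ (Γ.obj a).π ≫ _ = k
      rw [← Category.assoc, hs, Category.assoc, eqToHom_trans, eqToHom_refl, Category.comp_id]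
    rw [GrothendieckTopology.mem_over_iff,
      Precoverage.mem_toGrothendieck_iff_of_isStableUnderComposition] at hSec
    obtain ⟨Pr, hPr, hle⟩ := hSec
    refine ⟨Pr, hPr, fun W g hg => ?_⟩
    obtain ⟨s, hs⟩ := (Sieve.overEquiv_iff _ _).1 (hle _ _ hg)
    exact ⟨s.left, congrArg CategoryTheory.CommaMorphism.left hs⟩
  refine ⟨⟨U, P, act, π, cart, loc, toUnit _, eq_toUnit _ _⟩, rfl, fun a =>
    { base := eqToHom (base_eq Γ a) ≫ a.obj.hom
      top := τ a
      eqv := τ_act a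
      cart := IsPullback.of_iso (hτ a) (Iso.refl _) (Iso.refl _) (eqToIso (base_eq Γ a).symm) (Iso.refl _)
        (by simp) (by simp [pr]) (by simp) (by simp)
      wφ := eq_toUnit _ _ }, fun a => ?_, fun {a b} φ => AlgSt.QuotObj.hom_ext ?_ (hτn φ)⟩
  · exact Category.comp_id _
  · show (Γ.map φ).base ≫ _ ≫ b.obj.hom = _ ≫ a.obj.hom
    rw [reassoc_of% base_map']
    congr 1
    exact Over.w φ.hom

/-- Torsors under an affine group scheme glue. -/
theorem objGlue [IsAffineHom G.hom] : ObjGlue (BGq G) (Jq S) := fun U R hR Γ => by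
  obtain ⟨κ, W, f, hf, hk⟩ := exists_small_cover hR
  exact exists_torsor Γ hf hk hR

end Groth.L09.StackBG
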